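import Groth.Agent.H13Chow.SchemeCover
import Groth.Agent.H12AlgSp.ShriekEquiv
import Groth.Agent.H12AlgSp.Approx.RelBase
import Groth.Agent.H18HTop.PhBind
import Groth.Prelude.Def_W4stk3sptopologiesPh

/-!
Proper surjective morphisms of algebraic spaces are ph coverings.
-/

set_option autoImplicit false
set_option backward.isDefEq.respectTransparency false
set_option linter.style.haveILetI false
universe u

open CategoryTheory CategoryTheory.Limits AlgebraicGeometry Opposite
open AlgSp Groth.Agent.H12AlgSp Groth.Agent.H13AlgSp Groth.Agent.H13AlgSp.BlowProper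
open Groth.Agent.H12AlgSp.Shriek

namespace Groth.Agent.H13Chow

variable {S : Scheme.{u}}

theorem isSeparatedMor_of_shr {S' : Scheme.{u}} (g : S ⟶ S') {F G : Sp S} {f : F ⟶ G}
    (h : IsSeparatedMor ((shr g).map f)) : IsSeparatedMor f := by
  refine (repWith_shr_iff g @IsClosedImmersion (pullback.diagonal f)).1 ?_
  let e := ((isPullback_shr_iff (g := g)).2 (IsPullback.of_hasPullback f f)).isoPullback
  have he : (shr g).map (pullback.diagonal f) ≫ e.hom = pullback.diagonal ((shr g).map f) := by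
    apply pullback.hom_ext <;> simp [e, ← Functor.map_comp]
  refine (MorphismProperty.cancel_right_of_respectsIso (RepWith (S := S') @IsClosedImmersion) _ e.hom).1 ?_
  rw [he]
  exact h

theorem isProper_of_isProperMor_yon_map {A B : Over S} (k : A ⟶ B) [QuasiCompact k.left]
    (h : IsProperMor ((yon S).map k)) : IsProper k.left := by
  have hs : IsSeparated k.left := (isSeparatedMor_yon_map_iff k).1 h.1
  have hl : LocallyOfFiniteType k.left := locP_yon_map h.2.1.1
  have hrep : Representable ((yon S).map k) := ((repWith_yon_map_iff (⊤ : MorphismProperty Scheme.{u}) k).2 trivial).1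
  have hu : UniversallyClosed k.left := (repWith_yon_map_iff @UniversallyClosed k).1 ((repWith_universallyClosed_iff hrep).2 h.2.2)
  exact { }

/-- A space proper over an affine scheme receives a finite surjection from a scheme proper over it. -/
theorem exists_scheme_proper_surjective {Z : Over S} [IsAffine Z.left] {P : Sp S} (hP : IsAlgSpace P)
    (π : P ⟶ (yon S).obj Z) (hπ : IsProperMor π) (hπs : Function.Surjective (Points.map π)) :
    ∃ (T : Over S) (m : (yon S).obj T ⟶ P) (k : T ⟶ Z), m ≫ π = (yon S).map k ∧ IsProper k.left ∧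
      Surjective k.left := by
  obtain ⟨hq, hb⟩ := fib_spec (g := Z.hom) (X := P) π
  let F := fib (g := Z.hom) (X := P) π
  let q : (shr Z.hom).obj F ⟶ P := ((adj Z.hom).homEquiv F P).symm (fibι π)
  haveI : IsIso q := hq
  have hF : IsAlgSpace F := isAlgSpace_of_shr (g := Z.hom) (IsAlgSpace.of_iso hP (asIso q).symm)
  have ht : IsTerminal ((yon Z.left).obj (Over.mk (𝟙 Z.left))) :=
    IsTerminal.isTerminalObj (yon Z.left) _ Over.mkIdTerminal
  let p₀ := ht.from F
  haveI : IsIso (canS Z.hom (Over.mk (𝟙 Z.left))).left := inferInstanceAs (IsIso (𝟙 Z.left))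
  haveI : IsIso (canS Z.hom (Over.mk (𝟙 Z.left))) := (Over.isoMk (asIso (canS Z.hom (Over.mk (𝟙 Z.left))).left)
    (Over.w _)).isIso_hom
  let e := (yonIso Z.hom (Over.mk (𝟙 Z.left))).hom ≫ (yon S).map (canS Z.hom (Over.mk (𝟙 Z.left)))
  have he : (shr Z.hom).map p₀ ≫ e = q ≫ π :=
    ((congrArg ((shr Z.hom).map p₀ ≫ ·) (yonIso_toBase _)).trans (toBase_naturality Z.hom p₀)).trans hb.symm
  haveI : IsIso e := inferInstance
  haveI : MorphismProperty.ContainsIdentities (@IsSeparated : MorphismProperty Scheme.{u}) :=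
    ⟨fun _ => inferInstance⟩
  have hsep₀ : IsSeparatedMor p₀ := by
    refine isSeparatedMor_of_shr Z.hom ?_
    rw [(IsIso.eq_comp_inv e).2 he]
    exact isSeparatedMor_comp (isSeparatedMor_comp (isSeparatedMor_of_repWith (repWith_of_isIso q)) hπ.1)
      (isSeparatedMor_of_repWith (repWith_of_isIso _))
  have hqs : IsQuasiSeparatedSp F := Groth.Agent.H12AlgSp.isQuasiSeparatedSp_of_mor
    (isQuasiSeparatedMor_of_isSeparatedMor hsep₀) (isQuasiSeparatedSp_yon_of_isAffine (S := Z.left) ‹IsAffine Z.left›)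
  haveI : CompactSpace Z.left := inferInstance
  have hPc : IsQuasiCompactSp P := Approx.isQuasiCompactSp_of_mor hπ.2.1.2 (IsAlgSpace.yon_obj Z) (isQuasiCompactSp_yon_iff.2 inferInstance)
  have hqc : IsQuasiCompactSp F := by
    refine Approx.isQuasiCompactSp_of_shr' Z.hom ?_
    haveI : MorphismProperty.ContainsIdentities (@QuasiCompact : MorphismProperty Scheme.{u}) := ⟨fun _ => inferInstance⟩
    exact Approx.isQuasiCompactSp_of_mor (g := q) (isQuasiCompactMor_of_repWith (isAlgSpace_shr hF) hP (repWith_of_isIso q)) hP hPc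
  haveI : QuasiSeparatedSpace Z.left := inferInstance
  obtain ⟨W, h, hh, -, hs, hWc⟩ := exists_scheme_finite_surjective hF hqc hqs
  let T := (Over.map Z.hom).obj W
  let m : (yon S).obj T ⟶ P := (yonIso Z.hom W).inv ≫ (shr Z.hom).map h ≫ q
  have hm : RepWith @IsFinite m := MorphismProperty.RespectsIso.precomp _ _ _
    (MorphismProperty.RespectsIso.postcomp _ _ _ ((repWith_shr_iff Z.hom _ h).2 (isFiniteMor_iff.1 hh)))
  have hms : Function.Surjective (Points.map m) := surjective_map_of_repWith le_rfl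
    (MorphismProperty.RespectsIso.precomp _ _ _ (MorphismProperty.RespectsIso.postcomp _ _ _
      ((repWith_shr_iff Z.hom _ h).2 (repWith_surjective_of_map (isFiniteMor_iff.1 hh).rep hs))))
  obtain ⟨k, hk⟩ := (yon S).map_surjective (m ≫ π)
  haveI : CompactSpace T.left := hWc
  haveI : QuasiCompact k.left := inferInstance
  have hmp := ((isFiniteMor_iff_affine_proper (IsAlgSpace.yon_obj T) hP).1 (isFiniteMor_iff.2 hm)).2
  refine ⟨T, m, k, hk.symm, isProper_of_isProperMor_yon_map k
    (hk ▸ isProperMor_comp (IsAlgSpace.yon_obj T) hP (IsAlgSpace.yon_obj Z) hmp hπ), ⟨fun z => ?_⟩⟩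
  obtain ⟨x, hx⟩ := hπs (Points.ofScheme Z z)
  obtain ⟨t, rfl⟩ := hms x
  refine ⟨Points.toScheme T t, ?_⟩
  apply (Points.schemeEquiv Z).injective
  change Points.ofScheme Z (k.left (Points.toScheme T t)) = Points.ofScheme Z z
  rw [← hx, ← Points.map_comp, ← hk]
  conv_rhs => rw [← Points.ofScheme_toScheme T t, ← Points.ofPt_eq_map_ofScheme,
    ← Category.comp_id ((yon S).map k), ofPt_map, Points.ofPt_eq_map_ofScheme, Points.map_id]

/-- A proper surjective morphism is a ph covering. -/
theorem isPhCover_of_proper {X Y : Sp S} (hX : IsAlgSpace X) (hY : IsAlgSpace Y) (f : Y ⟶ X)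
    (hf : IsProperMor f) (hs : Function.Surjective (Points.map f)) :
    IsPhCover (fun _ : PUnit.{u + 1} => Y) (fun _ => f) := by
  refine ⟨fun _ => hf.2.1.1, fun Z hZ z => ?_⟩
  haveI := hZ
  have sq := IsPullback.of_hasPullback f z
  have hP : IsAlgSpace (pullback f z) := isAlgSpace_pullback hX.diag hY (IsAlgSpace.yon_obj Z) _ _
  have hπs : Function.Surjective (Points.map (pullback.snd f z)) := fun w => by
    obtain ⟨y, hy⟩ := hs (Points.map z w)
    obtain ⟨p, -, hp⟩ := exists_point_of_isPullback sq y w hy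
    exact ⟨p, hp⟩
  obtain ⟨T, m, k, hk, hkp, hks⟩ := exists_scheme_proper_surjective hP _
    (isProperMor_of_isPullback hY hX (IsAlgSpace.yon_obj Z) sq hf) hπs
  haveI := hkp; haveI := hks
  let E : PreZeroHypercover.{0} Z.left := PreZeroHypercover.mk PUnit (fun _ => T.left) (fun _ => k.left)
  obtain ⟨F, hF, hR⟩ := Groth.Agent.H18HTop.exists_standardPh_of_proper k.left (𝟙 Z.left) E
    (fun t => ⟨T.left, 𝟙 _, inferInstance, ⟨t, rfl⟩, ⟨⟩, 𝟙 _, by simp [E]⟩)
  refine ⟨F, hF, fun j => ?_⟩
  obtain ⟨i, φ, hφ⟩ := hR j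
  rw [Category.comp_id] at hφ
  change φ ≫ k.left = F.f j at hφ
  let φ' : Over.mk (F.f j ≫ Z.hom) ⟶ T := Over.homMk φ (by
    change φ ≫ T.hom = F.f j ≫ Z.hom
    rw [← Over.w k, reassoc_of% hφ])
  refine ⟨⟨⟩, (yon S).map φ' ≫ m ≫ pullback.fst f z, ?_⟩
  rw [Category.assoc, Category.assoc, pullback.condition, reassoc_of% hk, ← Functor.map_comp_assoc]
  exact congrArg (fun q => (yon S).map q ≫ z) (Over.OverMorphism.ext hφ)

end Groth.Agent.H13Chow
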