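import Groth.Agent.H13Chow.SchemeCover
import Groth.Agent.H13Chow.Proper
import Groth.Agent.H12AlgSp.OpenSub
import Groth.Agent.H13AlgSp.ThickFlat
import Groth.Agent.S1366

/-!
Open and closed proper pieces of the closed fibre over a henselian pair extend.
-/

set_option autoImplicit false
set_option backward.isDefEq.respectTransparency false
set_option linter.style.haveILetI false
universe u

open CategoryTheory CategoryTheory.Limits AlgebraicGeometry Opposite Topology
open AlgSp Groth.Agent.H12AlgSp Groth.Agent.H13AlgSp Groth.Agent.H13AlgSp.BlowProper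

namespace Groth.Agent.H13Chow

/-- Open subspaces with the same points are isomorphic over the ambient space. -/
theorem exists_iso_of_range_eq {S : Scheme.{u}} {X A B : Sp S} (hA : IsAlgSpace A) (hB : IsAlgSpace B) {a : A ⟶ X} {b : B ⟶ X}
    (ha : RepWith @IsOpenImmersion a) (hb : RepWith @IsOpenImmersion b)
    (h : Set.range (Points.map a) = Set.range (Points.map b)) : ∃ e : A ≅ B, e.hom ≫ b = a := by
  have sq := IsPullback.of_hasPullback a b
  haveI : IsIso (pullback.fst a b) := ThickFlat.isIso_of_openImmersion_surjective hA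
    (repWith_of_isPullback sq.flip hb) fun x => by
      obtain ⟨y, hy⟩ : Points.map a x ∈ Set.range (Points.map b) := h ▸ Set.mem_range_self x
      obtain ⟨w, hw, -⟩ := exists_point_of_isPullback sq x y hy.symm
      exact ⟨w, hw⟩
  haveI : IsIso (pullback.snd a b) := ThickFlat.isIso_of_openImmersion_surjective hB
    (repWith_of_isPullback sq ha) fun y => by
      obtain ⟨x, hx⟩ : Points.map b y ∈ Set.range (Points.map a) := h ▸ Set.mem_range_self y
      obtain ⟨w, -, hw⟩ := exists_point_of_isPullback sq x y hx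
      exact ⟨w, hw⟩
  refine ⟨(asIso (pullback.fst a b)).symm ≪≫ asIso (pullback.snd a b), ?_⟩
  simp [← pullback.condition]

/-- An open immersion with closed range is a closed immersion. -/
theorem repWith_closedImmersion_of_range {S : Scheme.{u}} {A X : Sp S} {a : A ⟶ X} (ha : RepWith @IsOpenImmersion a)
    (hc : IsClosed (Set.range (Points.map a))) : RepWith @IsClosedImmersion a := by
  refine MorphismProperty.relative.of_exists fun T g => ?_
  obtain ⟨P, snd, fst, sq⟩ := ha.rep g
  haveI : IsOpenImmersion snd.left := ha.property g fst snd sq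
  refine ⟨P, fst, snd, sq, IsClosedImmersion.of_isPreimmersion snd.left ?_⟩
  rw [← preimage_ofPt_range sq]
  exact hc.preimage (Points.continuous_ofPt g)

variable {A : Type u} [CommRing A] (I : Ideal A) [HenselianRing A I]

theorem exists_clopen_extension {X X₀ Y : Sp (Spec (CommRingCat.of A))} (hX : IsAlgSpace X) (hX₀ : IsAlgSpace X₀)
    (hY : IsAlgSpace Y)
    (s : X ⟶ (yon (Spec (CommRingCat.of A))).obj (Over.mk (𝟙 _))) (hs1 : IsSeparatedMor s) (hs2 : IsFiniteTypeMor s)
    (i₀ : X₀ ⟶ X)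
    (s₀ : X₀ ⟶ (yon (Spec (CommRingCat.of A))).obj (Over.mk (Spec.map (CommRingCat.ofHom (Ideal.Quotient.mk I)))))
    (hX₀' : IsPullback i₀ s₀ s ((yon (Spec (CommRingCat.of A))).map
      (Over.homMk (Spec.map (CommRingCat.ofHom (Ideal.Quotient.mk I))) (Category.comp_id _) :
        Over.mk (Spec.map (CommRingCat.ofHom (Ideal.Quotient.mk I))) ⟶ Over.mk (𝟙 _))))
    (jY : Y ⟶ X₀) (hY1 : RepWith @IsOpenImmersion jY) (hY2 : RepWith @IsClosedImmersion jY)
    (hY3 : IsProperMor (jY ≫ s₀)) :
    ∃ (W : Sp (Spec (CommRingCat.of A))) (w : W ⟶ X) (k : Y ⟶ W), IsAlgSpace W ∧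
      RepWith @IsOpenImmersion w ∧ RepWith @IsClosedImmersion w ∧ IsProperMor (w ≫ s) ∧ IsPullback k jY w i₀ := by
  let B₁ : Over (Spec (CommRingCat.of A)) := Over.mk (𝟙 _)
  let mkI := Spec.map (CommRingCat.ofHom (Ideal.Quotient.mk I))
  let B₀ : Over (Spec (CommRingCat.of A)) := Over.mk mkI
  let ι₀ : B₀ ⟶ B₁ := Over.homMk mkI (Category.comp_id _)
  have hB₁ : IsAlgSpace ((yon _).obj B₁) := IsAlgSpace.yon_obj _
  haveI : IsAffine B₁.left := inferInstanceAs (IsAffine (Spec (CommRingCat.of A)))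
  have hqc : IsQuasiCompactSp X := Approx.isQuasiCompactSp_of_mor hs2.2 hB₁ (isQuasiCompactSp_yon_iff.2 inferInstance)
  have hqs : IsQuasiSeparatedSp X := Groth.Agent.H12AlgSp.isQuasiSeparatedSp_of_mor
    (isQuasiSeparatedMor_of_isSeparatedMor hs1) (isQuasiSeparatedSp_yon_of_isAffine ‹IsAffine B₁.left›)
  obtain ⟨V, h, hh, -, hhs, hVc⟩ := exists_scheme_finite_surjective hX hqc hqs
  haveI := hVc
  have hp := ((isFiniteMor_iff_affine_proper (IsAlgSpace.yon_obj V) hX).1 hh).2
  have hh' := isFiniteMor_iff.1 hh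
  obtain ⟨kV, hkV⟩ := (yon _).map_surjective (h ≫ s)
  have hkl : kV.left = V.hom := by simpa [B₁] using Over.w kV
  haveI : IsSeparated V.hom := hkl ▸ (isSeparatedMor_yon_map_iff kV).1 (hkV ▸ isSeparatedMor_comp hp.1 hs1)
  haveI : LocallyOfFiniteType V.hom := hkl ▸ locP_yon_map (hkV ▸ Groth.Agent.H12AlgSp.locP_comp etLocal_lft
    (IsAlgSpace.yon_obj V) hX hB₁ hp.2.1.1 hs2.1)
  haveI : QuasiCompact V.hom := inferInstance
  -- the closed fibre of the cover
  let V₀ : Over (Spec (CommRingCat.of A)) := Over.mk (pullback.snd V.hom mkI ≫ mkI)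
  let pV : V₀ ⟶ V := Over.homMk (pullback.fst V.hom mkI) pullback.condition
  let pB : V₀ ⟶ B₀ := Over.homMk (pullback.snd V.hom mkI) rfl
  have sqV : IsPullback pV pB kV ι₀ := by
    refine IsPullback.of_map (Over.forget _) ?_ ?_
    · apply Over.OverMorphism.ext
      show pullback.fst V.hom mkI ≫ kV.left = pullback.snd V.hom mkI ≫ mkI
      rw [hkl]; exact pullback.condition
    · show IsPullback (pullback.fst V.hom mkI) (pullback.snd V.hom mkI) kV.left mkI
      rw [hkl]; exact IsPullback.of_hasPullback _ _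
  have sqY := sqV.map (yon (Spec (CommRingCat.of A)))
  rw [hkV] at sqY
  let h₀ : (yon _).obj V₀ ⟶ X₀ := hX₀'.lift ((yon _).map pV ≫ h) ((yon _).map pB)
    (by rw [Category.assoc]; exact sqY.w)
  have sq₀ : IsPullback ((yon _).map pV) h₀ h i₀ :=
    IsPullback.of_bot (by rw [hX₀'.lift_snd]; exact sqY) (hX₀'.lift_fst _ _ _).symm hX₀'
  have hh₀ : RepWith @IsFinite h₀ := repWith_of_isPullback sq₀ hh'
  have hh₀s : Function.Surjective (Points.map h₀) := fun x => by
    obtain ⟨v, hv⟩ := hhs (Points.map i₀ x)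
    obtain ⟨v₀, -, hv₀⟩ := exists_point_of_isPullback sq₀ v x hv
    exact ⟨v₀, hv₀⟩
  have hYo : IsOpen (Set.range (Points.map jY)) :=
    (isOpenMap_map_of_repWith (fun _ _ j (_ : IsOpenImmersion j) => inferInstanceAs (UniversallyOpen j)) hY1).isOpen_range
  have hYc : IsClosed (Set.range (Points.map jY)) :=
    (isClosedMap_map_of_repWith (fun _ _ j (_ : IsClosedImmersion j) => inferInstanceAs (UniversallyClosed j)) hY2).isClosed_range
  let O : (pullback V.hom mkI).Opens := ⟨Points.ofPt h₀ ⁻¹' Set.range (Points.map jY), hYo.preimage (Points.continuous_ofPt h₀)⟩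
  have hOp : IsProper (O.ι ≫ pullback.snd V.hom mkI) := by
    obtain ⟨P, snd, fst, sq⟩ := hY1.rep h₀
    haveI : IsOpenImmersion snd.left := hY1.property h₀ fst snd sq
    haveI : IsClosedImmersion snd.left := hY2.property h₀ fst snd sq
    have hfst : RepWith @IsFinite fst := repWith_of_isPullback sq.flip hh₀
    have hk : IsProperMor ((yon _).map (snd ≫ pB)) := by
      rw [Functor.map_comp, show (yon _).map pB = h₀ ≫ s₀ from (hX₀'.lift_snd _ _ _).symm, ← reassoc_of% sq.w]
      exact isProperMor_comp (IsAlgSpace.yon_obj P) hY (IsAlgSpace.yon_obj B₀)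
        ((isFiniteMor_iff_affine_proper (IsAlgSpace.yon_obj P) hY).1 (isFiniteMor_iff.2 hfst)).2 hY3
    haveI : CompactSpace V₀.left := QuasiCompact.compactSpace_of_compactSpace (pullback.fst V.hom mkI)
    haveI : CompactSpace P.left := QuasiCompact.compactSpace_of_compactSpace snd.left
    haveI : IsAffine B₀.left := inferInstanceAs (IsAffine (Spec (CommRingCat.of (A ⧸ I))))
    haveI : QuasiCompact (snd ≫ pB).left := inferInstance
    have hkp : IsProper (snd.left ≫ pullback.snd V.hom mkI) := isProper_of_isProperMor_yon_map (snd ≫ pB) hk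
    have hr : Set.range snd.left = Set.range O.ι := by
      rw [Scheme.Opens.range_ι]
      exact (preimage_ofPt_range sq).symm
    let e := IsOpenImmersion.isoOfRangeEq snd.left O.ι hr
    have he : O.ι = e.inv ≫ snd.left := (IsOpenImmersion.isoOfRangeEq_inv_fac snd.left O.ι hr).symm
    haveI := hkp
    rw [he, Category.assoc]
    infer_instance
  obtain ⟨W₁, hW₁c, hW₁p, hW₁⟩ := Groth.Agent.S1366.result I V.hom O (hYc.preimage (Points.continuous_ofPt h₀)) hOp
  -- the images of the two pieces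
  let Z : Set (Points X) := Points.ofPt h '' (W₁ : Set V.left)
  let Z' : Set (Points X) := Points.ofPt h '' (W₁ : Set V.left)ᶜ
  have hcl : IsClosedMap (Points.ofPt h) := by
    have e : Points.ofPt h = Points.map h ∘ Points.schemeHomeo V := funext fun v => Points.ofPt_eq_map_ofScheme h v
    rw [e]
    exact (isClosedMap_map_of_repWith (fun _ _ j (_ : IsFinite j) => inferInstanceAs (UniversallyClosed j)) hh').comp
      (Points.schemeHomeo V).isClosedMap
  have hZc : IsClosed Z := hcl _ hW₁c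
  have hZ'c : IsClosed Z' := hcl _ W₁.2.isClosed_compl
  have hdisj : ∀ x, x ∈ Z → x ∈ Z' → False := by
    haveI := hW₁p
    let C : Set W₁.toScheme := (fun v => Points.ofPt h (W₁.ι v)) ⁻¹' Z'
    have hC : IsClosed C := hZ'c.preimage ((Points.continuous_ofPt h).comp W₁.ι.continuous)
    have hC' : IsClosed ((W₁.ι ≫ V.hom) '' C) := (W₁.ι ≫ V.hom).isClosedMap _ hC
    intro x hx hx'
    obtain ⟨v, hv, rfl⟩ := hx
    have hne : ((W₁.ι ≫ V.hom) '' C).Nonempty := ⟨_, ⟨⟨v, hv⟩, hx', rfl⟩⟩
    obtain ⟨p, hp⟩ := hne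
    obtain ⟨m, hm, hle⟩ := Ideal.exists_le_maximal p.asIdeal p.2.ne_top
    let q : PrimeSpectrum A := ⟨m, hm.isPrime⟩
    have hq : q ∈ (W₁.ι ≫ V.hom) '' C := ((PrimeSpectrum.le_iff_specializes p q).1 hle).mem_closed hC' hp
    obtain ⟨a, ha, haq⟩ := hq
    have hIm : I ≤ m := (HenselianRing.jac (R := A) (I := I)).trans
      (sInf_le ⟨bot_le, hm⟩)
    obtain ⟨q₀, hq₀⟩ : q ∈ Set.range (PrimeSpectrum.comap (Ideal.Quotient.mk I)) := by
      rw [range_comap_of_surjective _ _ Ideal.Quotient.mk_surjective, Ideal.mk_ker]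
      exact hIm
    obtain ⟨a₀, ha₀, -⟩ := Scheme.Pullback.exists_preimage_pullback (f := V.hom) (g := mkI) (W₁.ι a) q₀
      (haq.trans hq₀.symm)
    have haO : a₀ ∈ O := by
      rw [← hW₁]
      show pullback.fst V.hom mkI a₀ ∈ W₁
      rw [ha₀]
      exact a.2
    obtain ⟨b, hb, hbx⟩ := ha
    have e₀ : Points.map i₀ (Points.ofPt h₀ a₀) = Points.ofPt h (W₁.ι a) := by
      rw [Points.map_ofPt, ← sq₀.w, ofPt_map]
      exact congrArg (Points.ofPt h) ha₀
    obtain ⟨w, hwb, hwh⟩ := exists_point_of_isPullback sq₀ (Points.ofScheme V b) (Points.ofPt h₀ a₀)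
      (by rw [← Points.ofPt_eq_map_ofScheme, e₀, hbx])
    obtain ⟨b₀, rfl⟩ := (Points.schemeEquiv V₀).surjective w
    change Points.map _ (Points.ofScheme V₀ b₀) = _ at hwb hwh
    rw [← Points.ofPt_eq_map_ofScheme] at hwh
    rw [← Points.ofPt_eq_map_ofScheme, ← Category.comp_id ((yon _).map pV), ofPt_map, Points.ofPt_eq_map_ofScheme,
      Points.map_id] at hwb
    have hbW : pullback.fst V.hom mkI b₀ = b := (Points.schemeEquiv V).injective hwb
    have : b₀ ∈ O := show Points.ofPt h₀ b₀ ∈ Set.range (Points.map jY) from hwh ▸ haO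
    rw [← hW₁] at this
    exact hb (hbW ▸ this)
  have hunion : ∀ x, x ∉ Z' → x ∈ Z := fun x hx => by
    obtain ⟨v, rfl⟩ := hhs x
    obtain ⟨v, rfl⟩ := (Points.schemeEquiv V).surjective v
    change Points.map h (Points.ofScheme V v) ∈ Z
    change Points.map h (Points.ofScheme V v) ∉ Z' at hx
    rw [← Points.ofPt_eq_map_ofScheme] at hx ⊢
    exact ⟨v, Classical.byContradiction fun hv => hx ⟨v, hv, rfl⟩, rfl⟩
  have hmem : ∀ v : V.left, Points.ofPt h v ∈ Z ↔ v ∈ W₁ := fun v =>
    ⟨fun hv => Classical.byContradiction fun hv' => hdisj _ hv ⟨v, hv', rfl⟩, fun hv => ⟨v, hv, rfl⟩⟩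
  have hZo : IsOpen Z := by
    rw [show Z = Z'ᶜ from Set.ext fun x => ⟨fun hx hx' => hdisj x hx hx', fun hx => hunion x hx⟩]
    exact hZ'c.isOpen_compl
  obtain ⟨W, w, hW, hw, hwr⟩ := exists_open_subspace hX hZo
  have hwc : RepWith @IsClosedImmersion w := repWith_closedImmersion_of_range hw (hwr ▸ hZc)
  have hwp := isProperMor_of_isClosedImmersion hX hwc
  -- properness
  obtain ⟨P, r, q, sqP⟩ := hw.rep h
  haveI : IsOpenImmersion r.left := hw.property h q r sqP
  haveI : IsClosedImmersion r.left := hwc.property h q r sqP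
  have hqs' : Function.Surjective (Points.map q) := fun x => by
    obtain ⟨v, hv⟩ := hhs (Points.map w x)
    obtain ⟨p, hp, -⟩ := exists_point_of_isPullback sqP x v hv.symm
    exact ⟨p, hp⟩
  have hr : Set.range r.left = Set.range W₁.ι := by
    rw [Scheme.Opens.range_ι, ← preimage_ofPt_range sqP, hwr]
    exact Set.ext hmem
  haveI : IsProper (r ≫ kV).left := by
    let e := IsOpenImmersion.isoOfRangeEq r.left W₁.ι hr
    have he : r.left = e.hom ≫ W₁.ι := (IsOpenImmersion.isoOfRangeEq_hom_fac r.left W₁.ι hr).symm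
    show IsProper (r.left ≫ kV.left)
    rw [hkl, he, Category.assoc]
    haveI := hW₁p
    infer_instance
  have hws : IsProperMor (w ≫ s) := by
    refine ⟨isSeparatedMor_comp hwp.1 hs1, ⟨Groth.Agent.H12AlgSp.locP_comp etLocal_lft hW hX hB₁ hwp.2.1.1 hs2.1, ?_⟩, ?_⟩
    · exact isQuasiCompactMor_comp hX hB₁ hwp.2.1.2 hs2.2
    · refine isUnivClosedMor_of_surjective (f := q) ?_ hqs'
      rw [reassoc_of% sqP.w, ← hkV, ← Functor.map_comp]
      exact (isProperMor_yon_map (r ≫ kV)).2.2
  -- the closed fibre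
  have sqW := IsPullback.of_hasPullback w i₀
  have hrange : Set.range (Points.map jY) = Set.range (Points.map (pullback.snd w i₀)) := by
    ext x
    obtain ⟨v, rfl⟩ := hh₀s x
    obtain ⟨v, rfl⟩ := (Points.schemeEquiv V₀).surjective v
    change Points.map h₀ (Points.ofScheme V₀ v) ∈ _ ↔ Points.map h₀ (Points.ofScheme V₀ v) ∈ _
    rw [← Points.ofPt_eq_map_ofScheme]
    have e : Points.map i₀ (Points.ofPt h₀ v) = Points.ofPt h (pV.left v) := by
      rw [Points.map_ofPt, ← sq₀.w, ofPt_map]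
    have h1 : Points.ofPt h₀ v ∈ Set.range (Points.map jY) ↔ Points.ofPt h (pV.left v) ∈ Z := by
      rw [hmem]
      change v ∈ O ↔ pullback.fst V.hom mkI v ∈ W₁
      rw [← hW₁]
      rfl
    rw [h1, ← hwr, ← e]
    constructor
    · rintro ⟨z, hz⟩
      obtain ⟨p, -, hp⟩ := exists_point_of_isPullback sqW z _ hz
      exact ⟨p, hp⟩
    · rintro ⟨p, hp⟩
      exact ⟨Points.map (pullback.fst w i₀) p, by rw [← hp, ← Points.map_comp, ← Points.map_comp, pullback.condition]⟩
  obtain ⟨e, he⟩ := exists_iso_of_range_eq hY (isAlgSpace_pullback hX.diag hW hX₀ w i₀) hY1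
    (repWith_of_isPullback sqW hw) hrange
  exact ⟨W, w, e.hom ≫ pullback.fst w i₀, hW, hw, hwc, hws,
    sqW.of_iso e.symm (Iso.refl _) (Iso.refl _) (Iso.refl _) (by simp) (by simp [← he]) (by simp) (by simp)⟩

end Groth.Agent.H13Chow
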