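import Groth.Agent.H13Chow.Proper
import Groth.Agent.H13AlgSp.PhFppf
import Groth.Agent.H12AlgSp.NormSp.Finite

/-!
Sheaves for the big ph site of an algebraic space: etale sheaves with descent along proper surjections.
-/

set_option autoImplicit false
set_option backward.isDefEq.respectTransparency false
set_option linter.style.haveILetI false
universe w u

open CategoryTheory CategoryTheory.Limits AlgebraicGeometry Opposite
open AlgSp Groth.Agent.H12AlgSp Groth.Agent.H13AlgSp Groth.Agent.H13AlgSp.BlowProper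

namespace Groth.Agent.H13Chow

variable {S : Scheme.{u}} {X : Space S}

/-- An etale covering presieve has a small subfamily which is a ph covering. -/
theorem spacesTop_etale_le_phSpacesTop (S : Scheme.{u}) : spacesTop S IsEtaleMor ≤ phSpacesTop S := by
  unfold spacesTop
  rw [Precoverage.toGrothendieck_le_iff_le_toPrecoverage]
  intro U R hR
  obtain ⟨V, a, ha, has⟩ := U.property.atlas
  choose Yv g hg hx using fun v : V.left => hR.2 (Points.ofPt a v)
  have hmem : Presieve.ofArrows Yv g ∈ phSpacesPre S U := by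
    refine (ofArrows_mem_phSpacesPre_iff Yv g).2 (isPhCover_of_isFppfCover U.property (fun v => (Yv v).property) ⟨fun v => ?_, fun x => ?_⟩)
    · have he := (isEtaleMor_iff_locP_etale U.property).1 (hR.1 (g v) (hg v))
      exact ⟨fun A B b c k hb hc e => by haveI : Etale k.left := he b c k hb hc e; infer_instance,
        fun A B b c k hb hc e => by haveI : Etale k.left := he b c k hb hc e; infer_instance⟩
    · obtain ⟨v, rfl⟩ := surjective_ofPt_of_repWith le_rfl has x
      exact ⟨v, hx v⟩
  show Sieve.generate R ∈ phSpacesTop S U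
  refine GrothendieckTopology.superset_covering _ ?_ (Precoverage.generate_mem_toGrothendieck hmem)
  rw [Sieve.generate_le_iff]
  rintro Z k ⟨v⟩
  exact Sieve.le_generate R _ _ (hg v)

theorem isPhCover_singleton_mem {U V : Space S} (f : V ⟶ U) (hf : IsProperMor f.hom)
    (hs : IsSurjectiveMor f.hom) :
    Sieve.generate (Presieve.ofArrows (fun _ : PUnit.{u + 1} => V) (fun _ => f)) ∈ phSpacesTop S U :=
  Precoverage.generate_mem_toGrothendieck
    ((ofArrows_mem_phSpacesPre_iff _ _).2 (isPhCover_of_proper U.property V.property f.hom hf hs))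

variable (F : (Over X)ᵒᵖ ⥤ Type w)

/-- Descent of sections along proper surjective morphisms over `X`. -/
def ProperDescent : Prop :=
  ∀ ⦃U V W : Over X⦄ (f : V ⟶ U) (p q : W ⟶ V),
    IsProperMor f.left.hom → IsSurjectiveMor f.left.hom →
    IsPullback p.left.hom q.left.hom f.left.hom f.left.hom →
    ∀ t : F.obj (op V), F.map p.op t = F.map q.op t → ∃! s : F.obj (op U), F.map f.op s = t

variable {F}

theorem ProperDescent.isSheafFor (h : ProperDescent F) {U V : Over X} (f : V ⟶ U)
    (hf : IsProperMor f.left.hom) (hs : IsSurjectiveMor f.left.hom) :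
    Presieve.IsSheafFor F (Presieve.singleton f) := by
  rw [Presieve.isSheafFor_singleton]
  intro t ht
  let W₀ : Space S := ⟨pullback f.left.hom f.left.hom,
    isAlgSpace_pullback U.left.property.diag V.left.property V.left.property _ _⟩
  let W : Over X := Over.mk (ObjectProperty.homMk (pullback.fst f.left.hom f.left.hom) ≫ V.hom : W₀ ⟶ X)
  let p : W ⟶ V := Over.homMk (ObjectProperty.homMk (pullback.fst f.left.hom f.left.hom)) rfl
  let q : W ⟶ V := Over.homMk (ObjectProperty.homMk (pullback.snd f.left.hom f.left.hom)) (by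
    show _ ≫ V.hom = _ ≫ V.hom
    rw [← Over.w f, ← Category.assoc, ← Category.assoc]
    congr 1
    ext : 1
    exact pullback.condition.symm)
  have hw : p ≫ f = q ≫ f := by
    apply Over.OverMorphism.ext
    ext : 1
    exact pullback.condition
  exact h f p q hf hs (IsPullback.of_hasPullback _ _) t (ht p q hw)

theorem ProperDescent.singleton_mem (h : ProperDescent F) {U V : Over X} (f : V ⟶ U)
    (hf : IsProperMor f.left.hom) (hs : IsSurjectiveMor f.left.hom) :
    Sieve.generate (Presieve.singleton f) ∈ Sheaf.finestTopologySingle F U := by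
  intro U' g
  have sq := IsPullback.of_hasPullback f.left.hom g.left.hom
  let P₀ : Space S := ⟨pullback f.left.hom g.left.hom,
    isAlgSpace_pullback U.left.property.diag V.left.property U'.left.property _ _⟩
  let P : Over X := Over.mk (ObjectProperty.homMk (pullback.snd f.left.hom g.left.hom) ≫ U'.hom : P₀ ⟶ X)
  let b : P ⟶ U' := Over.homMk (ObjectProperty.homMk (pullback.snd f.left.hom g.left.hom)) rfl
  let a : P ⟶ V := Over.homMk (ObjectProperty.homMk (pullback.fst f.left.hom g.left.hom)) (by
    show _ ≫ V.hom = _ ≫ U'.hom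
    rw [← Over.w f, ← Over.w g, ← Category.assoc, ← Category.assoc]
    congr 1
    ext : 1
    exact pullback.condition)
  have hab : a ≫ f = b ≫ g := by
    apply Over.OverMorphism.ext
    ext : 1
    exact pullback.condition
  have hb : IsProperMor b.left.hom :=
    isProperMor_of_isPullback V.left.property U.left.property U'.left.property sq hf
  have hbs : IsSurjectiveMor b.left.hom := fun w => by
    obtain ⟨y, hy⟩ := hs (Points.map g.left.hom w)
    obtain ⟨x, -, hx⟩ := exists_point_of_isPullback sq y w hy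
    exact ⟨x, hx⟩
  have e : (Sieve.generate (Presieve.singleton f)).pullback g = Sieve.generate (Presieve.singleton b) := by
    ext Z k
    constructor
    · rintro ⟨W, l, m, ⟨⟩, hl⟩
      let l' : Z.left ⟶ P₀ := ObjectProperty.homMk (sq.lift l.left.hom k.left.hom (by
        exact congrArg (fun t => t.left.hom) hl))
      refine ⟨P, Over.homMk l' ?_, b, ⟨⟩, ?_⟩
      · rw [← Over.w k]
        ext : 1
        exact congrArg (· ≫ U'.hom.hom) (sq.lift_snd _ _ _) |>.trans (by rfl) |> (fun e => (Category.assoc _ _ _).symm.trans e)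
      · apply Over.OverMorphism.ext
        ext : 1
        exact sq.lift_snd _ _ _
    · rintro ⟨W, l, m, ⟨⟩, rfl⟩
      exact ⟨V, l ≫ a, f, ⟨⟩, by rw [Category.assoc, hab, Category.assoc]⟩
  rw [e]
  exact (Presieve.isSheafFor_iff_generate _).1 (h.isSheafFor b hb hbs)

theorem exists_affine_etale_cover (Y : Space S) : ∃ (ι : Type u) (T : ι → Over S) (a : ∀ i, (ofScheme S).obj (T i) ⟶ Y),
    (∀ i, IsAffine (T i).left) ∧ Presieve.ofArrows (fun i => (ofScheme S).obj (T i)) a ∈ spacesPre S IsEtaleMor Y := by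
  obtain ⟨V, b, hb, hbs⟩ := Y.property.atlas
  let 𝒰 := V.left.affineCover
  let T : 𝒰.I₀ → Over S := fun i => Over.mk (𝒰.f i ≫ V.hom)
  let c : ∀ i, T i ⟶ V := fun i => Over.homMk (𝒰.f i)
  refine ⟨𝒰.I₀, T, fun i => ObjectProperty.homMk ((yon S).map (c i) ≫ b), fun i => inferInstanceAs (IsAffine (𝒰.X i)),
    (ofArrows_mem_spacesPre_iff _ _ _).2 ⟨fun i => ?_, fun y => ?_⟩⟩
  · haveI : Etale (c i).left := inferInstanceAs (Etale (𝒰.f i))
    exact fun _ _ hφ => repWith_comp hφ (repWith_comp ((repWith_yon_map_iff _ _).2 ‹_›) hb)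
  · obtain ⟨v, rfl⟩ := surjective_ofPt_of_repWith le_rfl hbs y
    obtain ⟨i, t, ht⟩ := 𝒰.exists_eq v
    refine ⟨i, Points.ofScheme (T i) t, ?_⟩
    show Points.map ((yon S).map (c i) ≫ b) _ = _
    rw [← Points.ofPt_eq_map_ofScheme, ofPt_map]
    exact congrArg (Points.ofPt b) ht

variable (F) in
/-- Sieves on a space whose pullbacks to all spaces over `X` lie in the finest topology of `F`. -/
def finestSpaces : GrothendieckTopology (Space S) where
  sieves U := {R | ∀ (Y : Space S) (f : Y ⟶ U) (p : Y ⟶ X),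
    (Sieve.overEquiv (Over.mk p)).symm (R.pullback f) ∈ Sheaf.finestTopologySingle F (Over.mk p)}
  top_mem' U Y f p := by
    rw [Sieve.pullback_top, OrderIso.map_top]
    exact GrothendieckTopology.top_mem _ _
  pullback_stable' U U' R g hR Y f p := by
    rw [← Sieve.pullback_comp]
    exact hR Y (f ≫ g) p
  transitive' U R hR R' hR' Y f p := by
    refine GrothendieckTopology.transitive _ (hR Y f p) _ fun Z g hg => ?_
    rw [← Sieve.overEquiv_symm_pullback, ← Sieve.pullback_comp]
    have := hR' hg Z.left (𝟙 _) Z.hom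
    erw [Sieve.pullback_id] at this
    exact this

/-- Etale descent and proper descent give descent for ph coverings. -/
theorem phSpacesTop_le (hE : Presheaf.IsSheaf (spacesTopOver IsEtaleMor X) F) (hP : ProperDescent F) :
    phSpacesTop S ≤ finestSpaces F := by
  have hEt : ∀ (U : Over X) (R : Sieve U), R ∈ spacesTopOver IsEtaleMor X U → R ∈ Sheaf.finestTopologySingle F U :=
    fun U R hR V g => (isSheaf_iff_isSheaf_of_type _ _).1 hE _ (GrothendieckTopology.pullback_stable _ g hR)
  unfold phSpacesTop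
  rw [Precoverage.toGrothendieck_le_iff_le_toPrecoverage]
  intro U R hR Y f p
  obtain ⟨ι, T, a, hT, ha⟩ := exists_affine_etale_cover Y
  refine GrothendieckTopology.transitive _ (hEt _ _ (GrothendieckTopology.overEquiv_symm_mem_over _ (Over.mk p) _
    (Precoverage.generate_mem_toGrothendieck ha))) _ fun Z g hg => ?_
  obtain ⟨Z', l, a', ⟨i⟩, hl⟩ := hg
  let U' : Over X := Over.mk (a i ≫ p)
  let a'' : U' ⟶ Over.mk p := Over.homMk (a i) rfl
  let l' : Z ⟶ U' := Over.homMk l (by
    rw [← Over.w g]
    exact (Category.assoc _ _ _).symm.trans (congrArg (· ≫ p) hl))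
  have hgl : g = l' ≫ a'' := Over.OverMorphism.ext hl.symm
  rw [hgl, Sieve.pullback_comp]
  refine GrothendieckTopology.pullback_stable _ l' ?_
  haveI := hT i
  obtain ⟨C, hC, hlift⟩ := hR.2 (T i) (hT i) ((a i).hom ≫ f.hom)
  obtain ⟨B, π, ι', hπ, hπs, ho, hι, hcov⟩ := hC.exists_proper
  haveI := hπ; haveI := hπs
  let B' : Over S := Over.mk (π ≫ (T i).hom)
  let π' : B' ⟶ T i := Over.homMk π
  haveI : IsProper π'.left := hπ
  let V' : Over X := Over.mk ((ofScheme S).map π' ≫ U'.hom)
  let π'' : V' ⟶ U' := Over.homMk ((ofScheme S).map π') rfl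
  have hπ'' : IsProperMor π''.left.hom := isProperMor_yon_map π'
  have hπ''s : IsSurjectiveMor π''.left.hom := surjective_map_of_repWith (P := @Surjective) le_rfl
    ((repWith_yon_map_iff @Surjective π').2 (inferInstanceAs (Surjective π)))
  refine GrothendieckTopology.transitive _ (hP.singleton_mem π'' hπ'' hπ''s) _ fun Z₁ g₁ hg₁ => ?_
  obtain ⟨-, l₁, -, ⟨⟩, rfl⟩ := hg₁
  rw [Sieve.pullback_comp]
  refine GrothendieckTopology.pullback_stable _ l₁ ?_
  let D : C.I₀ → Over S := fun j => Over.mk (C.f j ≫ (T i).hom)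
  let d : ∀ j, D j ⟶ B' := fun j => Over.homMk (ι' j) (by
    show ι' j ≫ π ≫ (T i).hom = C.f j ≫ (T i).hom
    rw [reassoc_of% (hι j)])
  have hd : Presieve.ofArrows (fun j : ULift.{u} C.I₀ => (ofScheme S).obj (D j.down)) (fun j => (ofScheme S).map (d j.down))
      ∈ spacesPre S IsEtaleMor ((ofScheme S).obj B') := by
    refine (ofArrows_mem_spacesPre_iff _ _ _).2 ⟨fun j => ?_, fun y => ?_⟩
    · haveI := ho j.down
      exact (isEtaleMor_yon_map_iff (d j.down)).2 (inferInstanceAs (Etale (ι' j.down)))
    · obtain ⟨b, rfl⟩ := (Points.schemeEquiv B').surjective y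
      obtain ⟨j, x, hx⟩ := hcov b
      refine ⟨⟨j⟩, Points.ofScheme (D j) x, ?_⟩
      show Points.map ((yon S).map (d j)) _ = _
      rw [← Category.comp_id ((yon S).map (d j)), ← Points.ofPt_eq_map_ofScheme, ofPt_map, Points.ofPt_eq_map_ofScheme,
        Points.map_id]
      exact congrArg (Points.ofScheme B') hx
  refine GrothendieckTopology.superset_covering _ ?_ (hEt _ _ (GrothendieckTopology.overEquiv_symm_mem_over _ V' _
    (Precoverage.generate_mem_toGrothendieck hd)))
  rintro Z₂ g₂ ⟨-, l₂, -, ⟨⟨j⟩⟩, hl₂⟩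
  obtain ⟨Y₂, r, hr, m, hm⟩ := hlift j
  refine ⟨Y₂, l₂ ≫ ObjectProperty.homMk m, r, hr, ?_⟩
  change l₂ ≫ (ofScheme S).map (d j) = g₂.left at hl₂
  show (l₂ ≫ ObjectProperty.homMk m) ≫ r = ((g₂.left ≫ (ofScheme S).map π') ≫ a i) ≫ f
  rw [← hl₂]
  ext : 1
  show (l₂.hom ≫ m) ≫ r.hom = (((l₂.hom ≫ (yon S).map (d j)) ≫ (yon S).map π') ≫ (a i).hom) ≫ f.hom
  rw [Category.assoc, hm]
  simp only [Category.assoc]
  congr 1
  rw [← Functor.map_comp_assoc]
  refine congrArg (fun q => (yon S).map q ≫ (a i).hom ≫ f.hom) (Over.OverMorphism.ext ?_)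
  exact (hι j).symm

/-- The sheaf criterion for the big ph site. -/
theorem isSheaf_phSpacesTopOver_iff (F : (Over X)ᵒᵖ ⥤ Type w) :
    Presheaf.IsSheaf (phSpacesTopOver X) F ↔
      Presheaf.IsSheaf (spacesTopOver IsEtaleMor X) F ∧ ProperDescent F := by
  refine ⟨fun h => ⟨?_, fun U V W f p q hf hs sq t ht => ?_⟩, fun ⟨hE, hP⟩ => ?_⟩
  · rw [isSheaf_iff_isSheaf_of_type] at h ⊢
    exact Presieve.isSheaf_of_le F (fun U R hR => spacesTop_etale_le_phSpacesTop S _ hR) h
  · have hmem : Sieve.generate (Presieve.singleton f) ∈ phSpacesTopOver X U := by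
      rw [GrothendieckTopology.mem_over_iff]
      refine GrothendieckTopology.superset_covering _ ?_ (isPhCover_singleton_mem f.left hf hs)
      rw [Sieve.generate_le_iff]
      rintro Z k ⟨⟩
      refine (Sieve.overEquiv_iff _ _).2 ⟨V, Over.homMk (𝟙 V.left) ?_, f, ⟨⟩, ?_⟩
      · exact (Category.id_comp V.hom).trans (Over.w f).symm
      · apply Over.OverMorphism.ext
        exact Category.id_comp _
    have := (Presieve.isSheafFor_iff_generate _).2 ((isSheaf_iff_isSheaf_of_type _ _).1 h _ hmem)
    rw [Presieve.isSheafFor_singleton] at this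
    refine this t fun {Z} a b hab => ?_
    have w : a.left.hom ≫ f.left.hom = b.left.hom ≫ f.left.hom := congrArg (fun t => t.left.hom) hab
    let l₀ : Z.left ⟶ W.left := ObjectProperty.homMk (sq.lift a.left.hom b.left.hom w)
    have h₁ : l₀ ≫ p.left = a.left := by ext : 1; exact sq.lift_fst _ _ _
    let l : Z ⟶ W := Over.homMk l₀ (by rw [← Over.w p, reassoc_of% h₁, Over.w a])
    have ea : a = l ≫ p := Over.OverMorphism.ext h₁.symm
    have eb : b = l ≫ q := by
      apply Over.OverMorphism.ext
      ext : 1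
      exact (sq.lift_snd _ _ _).symm
    rw [ea, eb, op_comp, op_comp, FunctorToTypes.map_comp_apply, FunctorToTypes.map_comp_apply, ht]
  · rw [isSheaf_iff_isSheaf_of_type]
    intro U R hR
    have := phSpacesTop_le hE hP _ hR U.left (𝟙 _) U.hom
    rw [Sieve.pullback_id] at this
    change (Sieve.overEquiv U).symm (Sieve.overEquiv U R) ∈ Sheaf.finestTopologySingle F U at this
    rw [OrderIso.symm_apply_apply] at this
    have := this U (𝟙 _)
    rwa [Sieve.pullback_id] at this

end Groth.Agent.H13Chow
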