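import Groth.Agent.H13Chow.QS
import Groth.Agent.H13Chow.Henselian
import Groth.Agent.H12AlgSp.Approx.Eventually
import Groth.Agent.H12AlgSp.SubExt.FTLimit
import Groth.Agent.H12AlgSp.RepMisc
import Groth.Agent.H05EGA4.Topo

/-!
A proper morphism is a limit of proper morphisms of finite presentation with closed transition maps.
-/

set_option autoImplicit false
set_option backward.isDefEq.respectTransparency false
set_option linter.style.haveILetI false
universe u

open CategoryTheory CategoryTheory.Limits AlgebraicGeometry Opposite Topology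
open AlgSp Groth.Agent.H12AlgSp Groth.Agent.H13AlgSp Groth.Agent.H13AlgSp.BlowProper

namespace Groth.Agent.H13Chow

variable {S : Scheme.{u}}

theorem isProperMor_of_closed_comp {A B Y : Sp S} (hA : IsAlgSpace A) (hB : IsAlgSpace B) (hY : IsAlgSpace Y)
    {i : A ⟶ B} (hi : RepWith @IsClosedImmersion i) {g : B ⟶ Y} (hg : IsProperMor g) : IsProperMor (i ≫ g) :=
  isProperMor_comp hA hB hY (isProperMor_of_isClosedImmersion hB hi) hg

variable [QuasiSeparatedSpace S]

/-- In a directed system of closed subspaces whose intersection is proper, some member is proper. -/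
theorem exists_proper_stage {X₀ X Y : Sp S} (hX₀ : IsAlgSpace X₀) (hX : IsAlgSpace X) (hY : IsAlgSpace Y)
    (hYc : IsQuasiCompactSp Y) (hYs : IsQuasiSeparatedSp Y) (t : X₀ ⟶ Y) (hts : IsSeparatedMor t) (htf : IsFiniteTypeMor t)
    {L : Type u} [Preorder L] [IsDirected L (fun a b => a ≤ b)] [Nonempty L] {D : Lᵒᵖ ⥤ Sp S}
    (hD : ∀ l, IsAlgSpace (D.obj l)) (w : D ⟶ (Functor.const Lᵒᵖ).obj X₀)
    (hw : ∀ l, RepWith @IsClosedImmersion (w.app l)) {c : Cone D} (hc : IsLimit c) (e : c.pt ≅ X)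
    (i : X ⟶ X₀) (hi : RepWith @IsClosedImmersion i) (hfac : ∀ l, e.inv ≫ c.π.app l ≫ w.app l = i)
    (hp : IsProperMor (i ≫ t)) : ∃ l, IsProperMor (w.app l ≫ t) := by
  classical
  obtain ⟨T, Tb, g, b, cb, hbc, hg, hgs, hb, hcb, -⟩ := exists_chow_qs hX₀ hY t hYc hYs hts htf
  haveI := hb
  have hX₀c : IsQuasiCompactSp X₀ := Approx.isQuasiCompactSp_of_mor htf.2 hY hYc
  haveI : CompactSpace T.left := isQuasiCompactSp_yon_iff.1 (Approx.isQuasiCompactSp_of_mor hg.2.1.2 hX₀ hX₀c)
  haveI : CompactSpace Tb.left := isQuasiCompactSp_yon_iff.1 (Approx.isQuasiCompactSp_of_mor hcb.2.1.2 hY hYc)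
  have hTbs : IsQuasiSeparatedSp ((yon S).obj Tb) := Groth.Agent.H12AlgSp.isQuasiSeparatedSp_of_mor
    (isQuasiSeparatedMor_of_isSeparatedMor hcb.1) hYs
  haveI : QuasiSeparated Tb.hom := ⟨(repWith_diag_yon_iff @QuasiCompact Tb).1 hTbs⟩
  haveI : QuasiSeparatedSpace Tb.left := quasiSeparatedSpace_of_quasiSeparated Tb.hom
  haveI : QuasiCompact b.left := inferInstance
  -- closed subschemes of the compactified cover
  choose P q a sqP using fun l => (hw l).rep g
  have hq : ∀ l, IsClosedImmersion (q l).left := fun l => (hw l).property g (a l) (q l) (sqP l)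
  haveI := hq
  obtain ⟨PX, qX, aX, sqX⟩ := hi.rep g
  haveI : IsClosedImmersion qX.left := hi.property g aX qX sqX
  have hPX : IsProperMor ((yon S).map (qX ≫ b)) := by
    have haX : IsProperMor aX := isProperMor_of_isPullback (IsAlgSpace.yon_obj T) hX₀ hX sqX.flip hg
    have h : IsProperMor ((yon S).map (qX ≫ b) ≫ cb) := by
      rw [Functor.map_comp, Category.assoc, hbc, ← reassoc_of% sqX.w]
      exact isProperMor_comp (IsAlgSpace.yon_obj PX) hX hY haX hp
    exact isProperMor_of_comp (IsAlgSpace.yon_obj PX) (IsAlgSpace.yon_obj Tb) hY h hcb.1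
  haveI : QuasiCompact (qX ≫ b).left := inferInstanceAs (QuasiCompact (qX.left ≫ b.left))
  haveI : IsProper (qX ≫ b).left := isProper_of_isProperMor_yon_map _ hPX
  let C : Lᵒᵖ → Set T.left := fun l => Set.range (q l).left
  have hC : ∀ l, IsClosed (C l) := fun l => (q l).left.isClosedEmbedding.isClosed_range
  have hmono : ∀ {l m : Lᵒᵖ} (φ : l ⟶ m), C l ⊆ C m := fun {l m} φ => by
    show Set.range (q l).left ⊆ Set.range (q m).left
    rw [← preimage_ofPt_range (sqP l), ← preimage_ofPt_range (sqP m)]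
    refine Set.preimage_mono ?_
    rintro _ ⟨x, rfl⟩
    refine ⟨Points.map (D.map φ) x, ?_⟩
    rw [← Points.map_comp, w.naturality]
    simp
  have hdir : ∀ l m : Lᵒᵖ, ∃ n, C n ⊆ C l ∧ C n ⊆ C m := fun l m => by
    obtain ⟨n, hl, hm⟩ := directed_of (α := L) (· ≤ ·) l.unop m.unop
    exact ⟨op n, hmono (homOfLE hl).op, hmono (homOfLE hm).op⟩
  -- the intersection
  have hinter : ∀ p : T.left, (∀ l, p ∈ C l) → p ∈ Set.range qX.left := fun p hp' => by
    let K : Over S := Over.mk (T.left.fromSpecResidueField p ≫ T.hom)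
    let κ : K ⟶ T := Over.homMk (T.left.fromSpecResidueField p)
    let x : (yon S).obj K ⟶ X₀ := (yon S).map κ ≫ g
    haveI : ∀ l, Mono (w.app l) := fun l => mono_of_closedImmersion (hw l)
    have hl : ∀ l, ∃ y : (yon S).obj K ⟶ D.obj l, y ≫ w.app l = x := fun l => by
      obtain ⟨z, hz⟩ := hp' l
      let r := pullback.snd (q l).left κ.left
      haveI : Surjective r := ⟨fun s => by
        obtain ⟨v, -, hv⟩ := Scheme.Pullback.exists_preimage_pullback (f := (q l).left) (g := κ.left) z s (by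
          rw [hz]; exact (Scheme.fromSpecResidueField_apply p s).symm)
        exact ⟨v, hv⟩⟩
      haveI : IsReduced K.left := inferInstanceAs (IsReduced (Spec (T.left.residueField p)))
      haveI : IsIso r := isIso_of_isClosedImmersion_of_surjective r
      let s : K ⟶ P l := Over.homMk (inv r ≫ pullback.fst (q l).left κ.left) (by
        rw [← Over.w (q l), Category.assoc, pullback.condition_assoc, IsIso.inv_hom_id_assoc]
        exact Over.w κ)
      refine ⟨(yon S).map s ≫ a l, ?_⟩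
      rw [Category.assoc, (sqP l).w, ← Functor.map_comp_assoc]
      refine congrArg (fun k => (yon S).map k ≫ g) (Over.OverMorphism.ext ?_)
      show (inv r ≫ pullback.fst (q l).left κ.left) ≫ (q l).left = κ.left
      rw [Category.assoc, pullback.condition, IsIso.inv_hom_id_assoc]
    choose y hy using hl
    have hnat : ∀ (l m : Lᵒᵖ) (φ : l ⟶ m), y l ≫ D.map φ = y m := fun l m φ => by
      rw [← cancel_mono (w.app m), Category.assoc, w.naturality, hy]
      simp [hy]
    let s : Cone D := Cone.mk ((yon S).obj K)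
      { app := y, naturality := fun l m φ => (Category.id_comp _).trans (hnat l m φ).symm }
    obtain ⟨l₀⟩ : Nonempty Lᵒᵖ := inferInstance
    have hy' : (hc.lift s ≫ e.hom) ≫ i = x := by
      rw [← hfac l₀, Category.assoc, Iso.hom_inv_id_assoc, hc.fac_assoc]
      exact hy l₀
    rw [← preimage_ofPt_range sqX]
    refine ⟨Points.ofPt (hc.lift s ≫ e.hom) (IsLocalRing.closedPoint _), ?_⟩
    rw [Points.map_ofPt, hy', ofPt_map]
    exact congrArg (Points.ofPt g) (Scheme.fromSpecResidueField_apply p _)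
  have hclX : IsClosed (Set.range (qX ≫ b).left) := (qX ≫ b).left.isClosedMap.isClosed_range
  -- a stage closed in the compactification
  have hbd : ∀ z : Tb.left, z ∉ Set.range b.left → ∃ l, z ∉ closure (b.left '' C l) := fun z hz => by
    by_contra hall
    push_neg at hall
    let O := Tb.left.fromSpecStalk z
    let U : (Spec (Tb.left.presheaf.stalk z)).Opens := O ⁻¹ᵁ b.left.opensRange
    have hU : IsCompact (U : Set (Spec (Tb.left.presheaf.stalk z))) :=
      O.isCompact_preimage (isCompact_range b.left.continuous)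
    let K : Lᵒᵖ → Set (Spec (Tb.left.presheaf.stalk z)) := fun l => O ⁻¹' (b.left '' C l)
    have hKc : ∀ l, ∃ F, IsClosed F ∧ (U : Set _) ∩ F = K l := fun l => by
      obtain ⟨F, hF, hFC⟩ := b.left.isOpenEmbedding.isInducing.isClosed_iff.1 (hC l)
      refine ⟨O ⁻¹' F, hF.preimage O.continuous, ?_⟩
      ext v
      constructor
      · rintro ⟨⟨u, hu⟩, hv⟩
        exact ⟨u, hFC ▸ (show b.left u ∈ F from hu ▸ hv), hu⟩
      · rintro ⟨u, hu, huv⟩
        have : b.left u ∈ F := by rw [← hFC] at hu; exact hu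
        exact ⟨⟨u, huv⟩, show O v ∈ F from huv ▸ this⟩
    choose F hF hFK using hKc
    have hne : ∀ l, (K l).Nonempty := fun l => by
      haveI : QuasiCompact ((q l).left ≫ b.left) := inferInstance
      obtain ⟨v, hv⟩ := Groth.Agent.H05EGA4.exists_specializes_of_mem_closure_range ((q l).left ≫ b.left)
        (show z ∈ closure (Set.range ((q l).left ≫ b.left).base) by
          rw [Scheme.Hom.comp_base, TopCat.coe_comp, Set.range_comp]; exact hall l)
      obtain ⟨o, ho⟩ : ((q l).left ≫ b.left).base v ∈ Set.range O := by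
        rw [Scheme.range_fromSpecStalk]; exact hv
      exact ⟨o, (q l).left v, ⟨v, rfl⟩, ho.symm⟩
    have hint : ((U : Set _) ∩ ⋂ l, K l).Nonempty := by
      have h1 : ((U : Set _) ∩ ⋂ l, F l).Nonempty := by
        by_contra h0
        obtain ⟨l, hl⟩ := hU.elim_directed_family_closed (fun l => (F l) ∩ ⋂ (m) (_ : C l ⊆ C m), F m)
          (fun l => (hF l).inter (isClosed_biInter fun m _ => hF m)) (by
            refine Set.eq_empty_of_forall_notMem fun v hv => h0 ⟨v, hv.1, Set.mem_iInter.2 fun l => ?_⟩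
            exact ((Set.mem_iInter.1 hv.2) l).1) (fun l m => by
            obtain ⟨n, hnl, hnm⟩ := hdir l m
            refine ⟨n, fun v hv => ?_, fun v hv => ?_⟩
            · refine ⟨Set.mem_iInter₂.1 hv.2 l hnl, Set.mem_iInter₂.2 fun k hk => Set.mem_iInter₂.1 hv.2 k (hnl.trans hk)⟩
            · refine ⟨Set.mem_iInter₂.1 hv.2 m hnm, Set.mem_iInter₂.2 fun k hk => Set.mem_iInter₂.1 hv.2 k (hnm.trans hk)⟩)
        obtain ⟨v, hv⟩ := hne l
        have hvU := (hFK l).ge hv
        refine (Set.eq_empty_iff_forall_notMem.1 hl) v ⟨hvU.1, hvU.2, Set.mem_iInter₂.2 fun m hm => ?_⟩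
        exact ((hFK m).ge (Set.preimage_mono (Set.image_mono hm) hv)).2
      obtain ⟨v, hv, hv'⟩ := h1
      exact ⟨v, hv, Set.mem_iInter.2 fun l => (hFK l).le ⟨hv, Set.mem_iInter.1 hv' l⟩⟩
    obtain ⟨v, ⟨p, hpv⟩, hv⟩ := hint
    have hpC : ∀ l, p ∈ C l := fun l => by
      obtain ⟨p', hp', hpe⟩ := Set.mem_iInter.1 hv l
      rwa [b.left.isOpenEmbedding.injective (hpe.trans hpv.symm)] at hp'
    obtain ⟨x, hx⟩ := hinter p hpC
    have hsp : O v ⤳ z := by
      have := Set.mem_range_self (f := O) v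
      rw [Scheme.range_fromSpecStalk] at this
      exact this
    have hzX : z ∈ Set.range (qX ≫ b).left := hsp.mem_closed hclX
      ⟨x, by rw [← hpv, ← hx]; rfl⟩
    obtain ⟨x', rfl⟩ := hzX
    exact hz ⟨qX.left x', rfl⟩
  obtain ⟨l, hl⟩ : ∃ l, closure (b.left '' C l) ⊆ Set.range b.left := by
    obtain ⟨l₀⟩ : Nonempty Lᵒᵖ := inferInstance
    have hB : IsCompact (Set.range b.left)ᶜ := b.left.isOpenEmbedding.isOpen_range.isClosed_compl.isCompact
    obtain ⟨l, hl⟩ := hB.elim_directed_family_closed (fun l => closure (b.left '' C l)) (fun _ => isClosed_closure)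
      (Set.eq_empty_of_forall_notMem fun z hz => by
        obtain ⟨l, hl⟩ := hbd z hz.1
        exact hl (Set.mem_iInter.1 hz.2 l))
      (fun l m => by
        obtain ⟨n, hnl, hnm⟩ := hdir l m
        exact ⟨n, closure_mono (Set.image_mono hnl), closure_mono (Set.image_mono hnm)⟩)
    exact ⟨l, fun z hz => Classical.byContradiction fun h => Set.eq_empty_iff_forall_notMem.1 hl z ⟨h, hz⟩⟩
  have hclosed : IsClosed (Set.range ((q l).left ≫ b.left).base) := by
    rw [Scheme.Hom.comp_base, TopCat.coe_comp, Set.range_comp]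
    refine closure_eq_iff_isClosed.1 (Set.Subset.antisymm ?_ subset_closure)
    intro z hz
    obtain ⟨p, rfl⟩ := hl hz
    refine ⟨p, ?_, rfl⟩
    show p ∈ C l
    rw [← (hC l).closure_eq, b.left.isEmbedding.closure_eq_preimage_closure_image (C l)]
    exact hz
  haveI : IsImmersion ((q l).left ≫ b.left) := inferInstance
  haveI : IsClosedImmersion ((q l).left ≫ b.left) := IsClosedImmersion.of_isPreimmersion _ hclosed
  haveI : IsProper ((q l) ≫ b).left := inferInstanceAs (IsProper ((q l).left ≫ b.left))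
  refine ⟨l, isSeparatedMor_comp (isProperMor_of_isClosedImmersion hX₀ (hw l)).1 hts,
    ⟨Groth.Agent.H12AlgSp.locP_comp etLocal_lft (hD l) hX₀ hY (isProperMor_of_isClosedImmersion hX₀ (hw l)).2.1.1 htf.1,
      isQuasiCompactMor_comp hX₀ hY (isProperMor_of_isClosedImmersion hX₀ (hw l)).2.1.2 htf.2⟩, ?_⟩
  refine isUnivClosedMor_of_surjective (f := a l) ?_ fun x => ?_
  · rw [reassoc_of% (sqP l).w, ← hbc, ← Functor.map_comp_assoc]
    exact (isProperMor_comp (IsAlgSpace.yon_obj _) (IsAlgSpace.yon_obj Tb) hY (isProperMor_yon_map (q l ≫ b)) hcb).2.2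
  · obtain ⟨y, hy⟩ := hgs (Points.map (w.app l) x)
    obtain ⟨p, hp, -⟩ := exists_point_of_isPullback (sqP l) x y hy.symm
    exact ⟨p, hp⟩

/-- A proper morphism is a limit of proper morphisms of finite presentation. -/
theorem exists_limit_proper {X Y : Sp S} (hX : IsAlgSpace X) (hY : IsAlgSpace Y) (f : X ⟶ Y) (hf : IsProperMor f)
    (hYc : IsQuasiCompactSp Y) (hYs : IsQuasiSeparatedSp Y) :
    ∃ (I : Type u) (_ : Preorder I) (_ : IsDirected I (fun a b => a ≤ b)) (_ : Nonempty I) (D : Iᵒᵖ ⥤ Sp S)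
      (t : D ⟶ (Functor.const Iᵒᵖ).obj Y) (c : Cone D) (_ : IsLimit c) (e : c.pt ≅ X),
      (∀ i, IsAlgSpace (D.obj i)) ∧ (∀ (i j : Iᵒᵖ) (φ : i ⟶ j), RepWith @IsClosedImmersion (D.map φ)) ∧
      (∀ i, RepWith @IsClosedImmersion (c.π.app i)) ∧
      (∀ i, IsProperMor (t.app i) ∧ IsFinitePresentationMor (t.app i)) ∧
      (∀ i, e.inv ≫ c.π.app i ≫ t.app i = f) := by
  have hXc : IsQuasiCompactSp X := Approx.isQuasiCompactSp_of_mor hf.2.1.2 hY hYc
  have hXs : IsQuasiSeparatedSp X :=
    Groth.Agent.H12AlgSp.isQuasiSeparatedSp_of_mor (isQuasiSeparatedMor_of_isSeparatedMor hf.1) hYs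
  obtain ⟨X₀, i, t, hit, hX₀, hi, ht, hts⟩ :=
    Approx.exists_closedImmersion_separated_fp hX hY hf.2.1.1 hf.1 hXc hXs hYs
  have htl : LocP @LocallyOfFiniteType t := fun U V a b k ha hb w =>
    haveI := ht.1 a b k ha hb w
    inferInstance
  have hX₀c : IsQuasiCompactSp X₀ := Approx.isQuasiCompactSp_of_mor ht.2.1 hY hYc
  have hX₀s : IsQuasiSeparatedSp X₀ := Groth.Agent.H12AlgSp.isQuasiSeparatedSp_of_mor ht.2.2 hYs
  obtain ⟨L, _, _, _, D, w, c, hc, e, hDa, hDm, hw, hfac⟩ := SubExt.exists_ftLimit hX₀ hX hX₀c hX₀s hi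
  obtain ⟨l₀, hl₀⟩ := exists_proper_stage hX₀ hX hY hYc hYs t hts ⟨htl, ht.2.1⟩ hDa w (fun l => (hw l).1) hc e i hi hfac
    (hit ▸ hf)
  let T := {l : L // l₀.unop ≤ l}
  haveI : Nonempty T := ⟨⟨l₀.unop, le_rfl⟩⟩
  haveI hd : IsDirected T (fun a b => a ≤ b) := ⟨fun a b => by
    obtain ⟨l, ha, hb⟩ := directed_of (fun a b : L => a ≤ b) a.1 b.1
    exact ⟨⟨l, a.2.trans ha⟩, ha, hb⟩⟩
  let ι : T →o L := ⟨fun a => a.1, fun a b h => h⟩
  haveI : IsDirectedOrder T := hd
  haveI : Functor.Final ι.monotone.functor := ι.monotone.final_functor_iff.2 fun l => by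
    obtain ⟨m, hm₁, hm₂⟩ := directed_of (fun a b : L => a ≤ b) l₀.unop l
    exact ⟨⟨m, hm₁⟩, hm₂⟩
  let β : Tᵒᵖ ⥤ Lᵒᵖ := ι.monotone.functor.op
  let t' : D ⟶ (Functor.const Lᵒᵖ).obj Y := w ≫ (Functor.const Lᵒᵖ).map t
  have hπ : ∀ l, RepWith @IsClosedImmersion (c.π.app l) := fun l => by
    haveI := mono_of_closedImmersion (hw l).1
    have h : RepWith @IsClosedImmersion (e.inv ≫ c.π.app l) :=
      repWith_of_comp_mono hi (f₂ := w.app l) (by rw [Category.assoc]; exact hfac l)
    have h' := MorphismProperty.RespectsIso.precomp _ e.hom _ h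
    rwa [Iso.hom_inv_id_assoc] at h'
  refine ⟨T, inferInstance, hd, inferInstance, β ⋙ D, Functor.whiskerLeft β t', c.whisker β,
    (Functor.Initial.isLimitWhiskerEquiv β c).symm hc, e, fun l => hDa _, fun l m φ => hDm _ _ _, fun l => hπ _,
    fun l => ⟨?_, ?_⟩, fun l => ?_⟩
  · show IsProperMor (w.app (β.obj l) ≫ t)
    have e' : w.app (β.obj l) = D.map (homOfLE l.unop.2).op ≫ w.app l₀ :=
      ((w.naturality (homOfLE l.unop.2).op).trans (Category.comp_id _)).symm
    rw [e', Category.assoc]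
    exact isProperMor_of_closed_comp (hDa _) (hDa _) hY (hDm _ _ _) hl₀
  · show IsFinitePresentationMor (w.app (β.obj l) ≫ t)
    exact ⟨Groth.Agent.H12AlgSp.locP_comp etLocal_lfp (hDa _) hX₀ hY (hw _).2.1 ht.1,
      isQuasiCompactMor_comp hX₀ hY (hw _).2.2.1 ht.2.1,
      isQuasiSeparatedMor_of_isSeparatedMor (isSeparatedMor_comp (isProperMor_of_isClosedImmersion hX₀ (hw _).1).1 hts)⟩
  · show e.inv ≫ c.π.app (β.obj l) ≫ w.app (β.obj l) ≫ t = f
    rw [reassoc_of% (hfac (β.obj l)), hit]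

end Groth.Agent.H13Chow
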