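import Groth.Agent.H13Chow.SchemeCover
import Groth.Agent.H13Chow.Proper

/-!
Chow's lemma for separated morphisms of finite type to a quasi-compact quasi-separated space.
-/

set_option autoImplicit false
set_option backward.isDefEq.respectTransparency false
set_option linter.style.haveILetI false
universe u

open CategoryTheory CategoryTheory.Limits AlgebraicGeometry Opposite
open AlgSp Groth.Agent.H12AlgSp Groth.Agent.H13AlgSp Groth.Agent.H13AlgSp.BlowProper

namespace Groth.Agent.H13Chow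

variable {S : Scheme.{u}} [QuasiSeparatedSpace S]

/-- Chow's lemma: up to a proper surjection the source embeds openly in a proper representable space. -/
theorem exists_chow_qs {X Y : Sp S} (hX : IsAlgSpace X) (hY : IsAlgSpace Y) (f : X ⟶ Y)
    (hYc : IsQuasiCompactSp Y) (hYs : IsQuasiSeparatedSp Y) (hsep : IsSeparatedMor f) (hft : IsFiniteTypeMor f) :
    ∃ (T Tb : Over S) (g : (yon S).obj T ⟶ X) (b : T ⟶ Tb) (c : (yon S).obj Tb ⟶ Y),
      (yon S).map b ≫ c = g ≫ f ∧ IsProperMor g ∧ Function.Surjective (Points.map g) ∧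
        IsOpenImmersion b.left ∧ IsProperMor c ∧ Representable c := by
  obtain ⟨W, h, hh, -, hs, hWc⟩ := exists_scheme_finite_surjective hX
    (Approx.isQuasiCompactSp_of_mor hft.2 hY hYc)
    (Groth.Agent.H12AlgSp.isQuasiSeparatedSp_of_mor (isQuasiSeparatedMor_of_isSeparatedMor hsep) hYs)
  obtain ⟨V, v, hv, -, hvs, hVc⟩ := exists_scheme_finite_surjective hY hYc hYs
  haveI := hWc; haveI := hVc
  have hv' := isFiniteMor_iff.1 hv
  obtain ⟨W', fst, snd, sq, hsnd⟩ := hv'.1 (h ≫ f) |> fun ⟨P, p, q, sqP⟩ =>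
    (⟨P, q, p, sqP, hv'.2 _ _ _ sqP⟩ : ∃ (W' : Over S) (fst : (yon S).obj W' ⟶ (yon S).obj V) (snd : W' ⟶ W),
      IsPullback fst ((yon S).map snd) v (h ≫ f) ∧ IsFinite snd.left)
  obtain ⟨q, rfl⟩ := (yon S).map_surjective fst
  haveI := hsnd
  have hp := ((isFiniteMor_iff_affine_proper (IsAlgSpace.yon_obj W) hX).1 hh).2
  have hf' : IsFiniteTypeMor f := hft
  haveI : IsSeparated q.left := (isSeparatedMor_yon_map_iff q).1
    (isSeparatedMor_of_isPullback sq.flip (isSeparatedMor_comp hp.1 hsep))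
  haveI : LocallyOfFiniteType q.left := locP_yon_map (Groth.Agent.H13AlgSp.locP_of_isPullback (IsAlgSpace.yon_obj W)
    hY sq.flip (Groth.Agent.H12AlgSp.locP_comp etLocal_lft (IsAlgSpace.yon_obj W) hX hY hp.2.1.1 hf'.1))
  haveI : CompactSpace W'.left := QuasiCompact.compactSpace_of_compactSpace snd.left
  have hVs : IsQuasiSeparatedSp ((yon S).obj V) := Groth.Agent.H12AlgSp.isQuasiSeparatedSp_of_mor
    (isQuasiSeparatedMor_of_isSeparatedMor ((isFiniteMor_iff_affine_proper (IsAlgSpace.yon_obj V) hY).1 hv).2.1) hYs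
  haveI : QuasiSeparated V.hom := ⟨(repWith_diag_yon_iff @QuasiCompact V).1 hVs⟩
  haveI : QuasiSeparatedSpace V.left := quasiSeparatedSpace_of_quasiSeparated V.hom
  haveI : QuasiCompact q.left := inferInstance
  obtain ⟨n, X', π, j, hj, hjπ, hπ, hπs⟩ := Groth.Agent.H7Lim.exists_chow_qcqs q.left
  haveI := hj; haveI := hπ; haveI := hπs
  let P := CohB1.ProjSpaceOver n V.left
  let tb := CohB1.ProjSpaceOver.toBase n V.left
  haveI : IsProper tb := Groth.Agent.H27Weil.isProper_toBase n V.left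
  haveI : QuasiCompact (j ≫ tb) := by rw [hjπ]; infer_instance
  haveI : QuasiCompact j := QuasiCompact.of_comp j tb
  let T : Over S := Over.mk (π ≫ W'.hom)
  let Tb : Over S := Over.mk (j.imageι ≫ tb ≫ V.hom)
  let π' : T ⟶ W' := Over.homMk π
  let b : T ⟶ Tb := Over.homMk j.toImage (by
    show j.toImage ≫ j.imageι ≫ tb ≫ V.hom = π ≫ W'.hom
    rw [Scheme.Hom.toImage_imageι_assoc, reassoc_of% hjπ, Over.w q])
  let c : Tb ⟶ V := Over.homMk (j.imageι ≫ tb) (Category.assoc _ _ _)
  haveI : IsProper c.left := inferInstanceAs (IsProper (j.imageι ≫ tb))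
  haveI : IsProper π'.left := hπ
  have hWprop : IsProperMor ((yon S).map snd) := isProperMor_yon_map snd
  refine ⟨T, Tb, (yon S).map π' ≫ (yon S).map snd ≫ h, b, (yon S).map c ≫ v, ?_,
    isProperMor_comp (IsAlgSpace.yon_obj T) (IsAlgSpace.yon_obj W') hX (isProperMor_yon_map π')
      (isProperMor_comp (IsAlgSpace.yon_obj W') (IsAlgSpace.yon_obj W) hX hWprop hp), ?_,
    inferInstanceAs (IsOpenImmersion j.toImage),
    isProperMor_comp (IsAlgSpace.yon_obj Tb) (IsAlgSpace.yon_obj V) hY (isProperMor_yon_map c)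
      ((isFiniteMor_iff_affine_proper (IsAlgSpace.yon_obj V) hY).1 hv).2, ?_⟩
  · rw [Category.assoc, Category.assoc, ← sq.w, ← Functor.map_comp_assoc, ← Functor.map_comp_assoc]
    refine congrArg (fun t => (yon S).map t ≫ v) (Over.OverMorphism.ext ?_)
    show j.toImage ≫ j.imageι ≫ tb = π ≫ q.left
    rw [Scheme.Hom.toImage_imageι_assoc, hjπ]
  · intro x
    obtain ⟨w, rfl⟩ := hs x
    obtain ⟨z, hz⟩ := hvs (Points.map f (Points.map h w))
    obtain ⟨w', -, hw'⟩ := exists_point_of_isPullback sq z w (by rw [Points.map_comp, hz])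
    obtain ⟨t, ht⟩ := surjective_map_of_repWith (P := @Surjective) le_rfl
      ((repWith_yon_map_iff @Surjective π').2 (inferInstanceAs (Surjective π))) w'
    exact ⟨t, by rw [Points.map_comp, Points.map_comp, ht, hw']⟩
  · exact (repWith_comp (P := (⊤ : MorphismProperty Scheme.{u})) ((repWith_yon_map_iff _ c).2 trivial)
      (repWith_le le_top hv')).1

end Groth.Agent.H13Chow
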