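import Groth.Agent.H12AlgSp.AbsInt.Main
import Groth.Agent.H12AlgSp.Approx.IntegralLimit
import Groth.Agent.H12AlgSp.LimitScheme
import Groth.Agent.H12AlgSp.AffineMor
import Groth.Agent.H12AlgSp.Proper
import Groth.Agent.H7Lim.Proper.Chow
import Groth.Agent.H13AlgSp.BlowProper
import Groth.Agent.H13AlgSp.SepDecent
import Groth.Prelude.Def_RelProj

/-!
Quasi-compact quasi-separated spaces have finite surjective covers by schemes; Chow's lemma over an affine base.
-/

set_option autoImplicit false
set_option backward.isDefEq.respectTransparency false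
set_option linter.style.haveILetI false
universe u

open CategoryTheory CategoryTheory.Limits AlgebraicGeometry Opposite Topology
open AlgSp Groth.Agent.H12AlgSp Groth.Agent.H13AlgSp Groth.Agent.H13AlgSp.BlowProper

namespace Groth.Agent.H13Chow

variable {S : Scheme.{u}} [QuasiSeparatedSpace S]

/-- A quasi-compact quasi-separated space has a finite, finitely presented, surjective cover by a scheme. -/
theorem exists_scheme_finite_surjective {X : Sp S} (hX : IsAlgSpace X) (hqc : IsQuasiCompactSp X)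
    (hqs : IsQuasiSeparatedSp X) :
    ∃ (W : Over S) (h : (yon S).obj W ⟶ X), IsFiniteMor h ∧ IsFinitePresentationMor h ∧
      Function.Surjective (Points.map h) ∧ CompactSpace W.left := by
  obtain ⟨U, a, ha, has⟩ := hX.atlas
  obtain ⟨Y, g, hg, hgs, -⟩ := AbsInt.exists_scheme_integral_surjective hX hqc hqs a ha has
  obtain ⟨Φ, hΦ⟩ := Approx.exists_limit_finite (IsAlgSpace.yon_obj Y) hX (isIntegralMor_iff.2 hg) hqc hqs
  obtain ⟨i, hi⟩ := exists_scheme_of_scheme_limit (D := Φ.D) Φ.alg Φ.affine (c := Cone.mk _ Φ.π) Φ.isLimit Φ.qc Φ.qs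
    (Iso.refl _)
  obtain ⟨W, ⟨e⟩⟩ := hi i (𝟙 _)
  refine ⟨W, e.hom ≫ Φ.t.app i, isFiniteMor_iff.2 ?_, ?_, ?_, ?_⟩
  · haveI : MorphismProperty.ContainsIdentities (@IsFinite : MorphismProperty Scheme.{u}) := ⟨fun _ => inferInstance⟩
    exact repWith_comp (repWith_of_isIso _) (isFiniteMor_iff.1 (hΦ i))
  · refine Approx.isFinitePresentationMor_comp_closed (IsAlgSpace.yon_obj W) (Φ.alg i) hX ?_ (Φ.fp i) ?_
    · haveI : MorphismProperty.ContainsIdentities (@LocallyOfFinitePresentation : MorphismProperty Scheme.{u}) :=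
        ⟨fun _ => inferInstance⟩
      haveI : MorphismProperty.ContainsIdentities (@QuasiCompact : MorphismProperty Scheme.{u}) :=
        ⟨fun _ => inferInstance⟩
      haveI : MorphismProperty.ContainsIdentities (@IsSeparated : MorphismProperty Scheme.{u}) :=
        ⟨fun _ => inferInstance⟩
      exact ⟨locP_of_repWith etLocal_lfp (repWith_of_isIso _),
        isQuasiCompactMor_of_repWith (IsAlgSpace.yon_obj W) (Φ.alg i) (repWith_of_isIso _),
        isQuasiSeparatedMor_of_isSeparatedMor (isSeparatedMor_of_repWith (repWith_of_isIso _))⟩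
    · haveI : MorphismProperty.ContainsIdentities (@IsFinite : MorphismProperty Scheme.{u}) := ⟨fun _ => inferInstance⟩
      exact isFiniteMor_iff.2 (repWith_comp (repWith_of_isIso _) (isFiniteMor_iff.1 (hΦ i)))
  · intro x
    obtain ⟨y, hy⟩ := surjective_map_of_repWith le_rfl hgs x
    refine ⟨Points.map e.inv (Points.map (Φ.π.app i) y), ?_⟩
    rw [← Points.map_comp, Iso.inv_hom_id_assoc, ← Points.map_comp, Φ.fac, hy]
  · have hc : IsQuasiCompactSp ((yon S).obj W) := Approx.isQuasiCompactSp_of_mor (g := e.hom)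
      (by haveI : MorphismProperty.ContainsIdentities (@QuasiCompact : MorphismProperty Scheme.{u}) := ⟨fun _ => inferInstance⟩; exact isQuasiCompactMor_of_repWith (IsAlgSpace.yon_obj W) (Φ.alg i) (repWith_of_isIso _)) (Φ.alg i) (Φ.qc i)
    exact isQuasiCompactSp_yon_iff.1 hc

/-- Chow's lemma for separated spaces of finite type over an affine scheme. -/
theorem exists_chow_affine [IsAffine S] {X : Sp S} (hX : IsAlgSpace X) (p : X ⟶ (yon S).obj (Over.mk (𝟙 S)))
    (hsep : IsSeparatedMor p) (hft : IsFiniteTypeMor p) :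
    ∃ (T : Over S) (g : (yon S).obj T ⟶ X),
      RelProj.IsHQuasiProjective T.hom ∧ IsProperMor g ∧ Function.Surjective (Points.map g) := by
  have hS : IsAlgSpace ((yon S).obj (Over.mk (𝟙 S))) := IsAlgSpace.yon_obj _
  haveI : IsAffine (Over.mk (𝟙 S) : Over S).left := ‹IsAffine S›
  have hqc : IsQuasiCompactSp X := Approx.isQuasiCompactSp_of_mor hft.2 hS (isQuasiCompactSp_yon_iff.2 inferInstance)
  have hqs : IsQuasiSeparatedSp X := isQuasiSeparatedSp_of_mor (isQuasiSeparatedMor_of_isSeparatedMor hsep)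
    (isQuasiSeparatedSp_yon_of_isAffine inferInstance)
  obtain ⟨W, h, hh, -, hs, hWc⟩ := exists_scheme_finite_surjective hX hqc hqs
  have hp := ((isFiniteMor_iff_affine_proper (IsAlgSpace.yon_obj W) hX).1 hh).2
  obtain ⟨k, hk⟩ := (yon S).map_surjective (h ≫ p)
  have hkW : k.left = W.hom := by simpa using Over.w k
  haveI : IsSeparated W.hom := by
    have := (isSeparatedMor_yon_map_iff k).1 (hk ▸ isSeparatedMor_comp hp.1 hsep)
    rwa [hkW] at this
  haveI : LocallyOfFiniteType W.hom := by
    have := locP_yon_map (hk ▸ Groth.Agent.H12AlgSp.locP_comp etLocal_lft (IsAlgSpace.yon_obj W) hX hS hp.2.1.1 hft.1)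
    rwa [hkW] at this
  haveI := hWc
  haveI : QuasiCompact W.hom := (quasiCompact_iff_compactSpace _).2 inferInstance
  obtain ⟨n, X', π, j, hj, hjπ, hπ, hπs⟩ := Groth.Agent.H7Lim.exists_chow_qcqs W.hom
  haveI := hπ
  let T : Over S := Over.mk (π ≫ W.hom)
  let π' : T ⟶ W := Over.homMk π
  haveI : IsProper π'.left := hπ
  refine ⟨T, (yon S).map π' ≫ h, ⟨n, j, hj, ?_, hjπ⟩,
    isProperMor_comp (IsAlgSpace.yon_obj T) (IsAlgSpace.yon_obj W) hX (isProperMor_yon_map π') hp, ?_⟩
  · haveI : QuasiCompact (j ≫ CohB1.ProjSpaceOver.toBase n S) := by rw [hjπ]; infer_instance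
    haveI : IsSeparated (CohB1.ProjSpaceOver.toBase n S) := by unfold CohB1.ProjSpaceOver.toBase; infer_instance
    exact QuasiCompact.of_comp j (CohB1.ProjSpaceOver.toBase n S)
  · intro x
    obtain ⟨w, rfl⟩ := hs x
    obtain ⟨t, ht⟩ := hπs.surj (Points.toScheme W w)
    refine ⟨Points.ofScheme T t, ?_⟩
    rw [← Points.ofPt_eq_map_ofScheme, ofPt_map, Points.ofPt_eq_map_ofScheme]
    exact congrArg (Points.map h) ((congrArg (Points.ofScheme W) ht).trans (Points.ofScheme_toScheme W w))

end Groth.Agent.H13Chow
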