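import Groth.Agent.H13Chow.Star
import Groth.Agent.H13Chow.SchemeCover
import Groth.Agent.H12AlgSp.EventuallyClosed
import Groth.Agent.H12AlgSp.LimitBaseChange
import Groth.Agent.H12AlgSp.DecentSeparated
import Groth.Agent.H12AlgSp.ShriekSpace
import Groth.Agent.H7Lim.Separated

/-!
Chow's lemma for separated morphisms of finite type to a quasi-compact separated space.
-/

set_option autoImplicit false
set_option backward.isDefEq.respectTransparency false
set_option linter.style.haveILetI false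
universe u

open CategoryTheory CategoryTheory.Limits AlgebraicGeometry Opposite
open AlgSp Groth.Agent.H12AlgSp Groth.Agent.H13AlgSp Groth.Agent.H13AlgSp.BlowProper
open Groth.Agent.H7Lim.Approx (FGSub sys sysCone system toZ quasiSeparatedSpace_of_toZ)

namespace Groth.Agent.H13Chow

variable {S : Scheme.{u}}

/-- The graph of a morphism to a separated space is a closed immersion. -/
theorem repWith_graph {A Y : Sp S} (a : A ⟶ Y) (hY : IsSeparatedSp Y) :
    RepWith @IsClosedImmersion (prod.lift (𝟙 A) a) :=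
  repWith_of_isPullback
    (isPullback_diag_prodMap (IsPullback.of_horiz_isIso (fst := 𝟙 A) (snd := a) (f := a) (g := 𝟙 Y) ⟨by simp⟩)) hY

/-- A product with `S`, mapped by the graph of the structure map. -/
noncomputable def unitProd (W : Over S) : W ⟶ (prodOver S).obj W.left :=
  Over.homMk (prod.lift W.hom (𝟙 W.left)) (prod.lift_fst _ _)

variable [S.IsSeparated]

instance isClosedImmersion_unitProd (W : Over S) : IsClosedImmersion (unitProd W).left := by
  haveI : IsClosedImmersion ((unitProd W).left ≫ (prod.snd : S ⨯ W.left ⟶ W.left)) := by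
    show IsClosedImmersion (prod.lift W.hom (𝟙 W.left) ≫ prod.snd)
    rw [prod.lift_snd]; infer_instance
  exact IsClosedImmersion.of_comp (unitProd W).left (prod.snd : S ⨯ W.left ⟶ W.left)

/-- A scheme with a map to a separated space embeds in some separated finite type scheme times the space. -/
theorem exists_stage_closed (W : Over S) [CompactSpace W.left] [W.left.IsSeparated] {Y : Sp S} (hY : IsAlgSpace Y)
    (hYc : IsQuasiCompactSp Y) (hYs : IsSeparatedSp Y) (a : (yon S).obj W ⟶ Y)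
    (ha : LocP @LocallyOfFiniteType a) :
    ∃ (Z : Scheme.{u}) (κ : W ⟶ (prodOver S).obj Z), CompactSpace Z ∧ Z.IsSeparated ∧
      LocallyOfFiniteType (toZ Z) ∧ RepWith @IsClosedImmersion (prod.lift ((yon S).map κ) a) := by
  obtain ⟨S₀, g, hg, hS₀, hS₀t⟩ := Groth.Agent.H7Lim.Approx.exists_affineHom_finiteType W.left
  haveI := quasiSeparatedSpace_of_toZ S₀
  obtain ⟨hc⟩ := Groth.Agent.H7Lim.Approx.nonempty_isLimit_sysCone g
  haveI : ∀ i, CompactSpace ((sys g).obj i) := fun i ↦ inferInstanceAs (CompactSpace i.unop.spec)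
  haveI : ∀ i, QuasiSeparatedSpace ((sys g).obj i) := fun i ↦
    inferInstanceAs (QuasiSeparatedSpace i.unop.spec)
  haveI : ∀ (i j : (FGSub g)ᵒᵖ) (a : i ⟶ j), IsAffineHom ((sys g).map a) := fun i j a ↦
    inferInstanceAs (IsAffineHom ((system g).map a).left)
  haveI : ∀ {i j : (FGSub g)ᵒᵖ} (a : i ⟶ j), IsAffineHom ((sys g).map a) := fun {i j} a ↦
    inferInstanceAs (IsAffineHom ((system g).map a).left)
  haveI : (sysCone g).pt.IsSeparated := ‹W.left.IsSeparated›
  obtain ⟨i₀, hi₀⟩ := Groth.Agent.H7Lim.exists_isSeparated_obj (D := sys g) (c := sysCone g) hc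
  let D : (FGSub g)ᵒᵖ ⥤ Sp S := sys g ⋙ prodOver S ⋙ yon S
  let c : Cone D := (prodOver S ⋙ yon S).mapCone (sysCone g)
  have hcD : IsLimit c := isLimitOfPreserves _ hc
  have hD : ∀ i, IsAlgSpace (D.obj i) := fun i => IsAlgSpace.yon_obj _
  have hDa : ∀ (i j : (FGSub g)ᵒᵖ) (φ : i ⟶ j), IsAffineMor (D.map φ) := fun i j φ =>
    isAffineMor_iff.2 ((repWith_yon_map_iff _ _).2 (isAffineHom_prod_map S ((sys g).map φ)))
  let b : D.obj i₀ ⨯ Y ⟶ D.obj i₀ := prod.fst
  have hb := Groth.Agent.H12AlgSp.Shriek.isAlgSpace_prod (hD i₀) hY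
  have hbc : IsQuasiCompactSp (D.obj i₀ ⨯ Y) := by
    refine Approx.isQuasiCompactSp_of_mor (g := (prod.snd : D.obj i₀ ⨯ Y ⟶ Y)) ?_ hY hYc
    refine isQuasiCompactMor_of_repWith hb hY ?_
    have ht : IsTerminal ((yon S).obj (Over.mk (𝟙 S))) := IsTerminal.isTerminalObj (yon S) _ Over.mkIdTerminal
    refine repWith_of_isPullback (IsPullback.of_is_product' (fst := (prod.fst : D.obj i₀ ⨯ Y ⟶ D.obj i₀))
      (snd := (prod.snd : D.obj i₀ ⨯ Y ⟶ Y)) (prodIsProd _ _) ht) ?_
    rw [ht.hom_ext (ht.from (D.obj i₀)) ((yon S).map (Over.homMk ((prodOver S).obj ((sys g).obj i₀)).hom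
      (Category.comp_id _) : (prodOver S).obj ((sys g).obj i₀) ⟶ Over.mk (𝟙 S)))]
    refine (repWith_yon_map_iff _ _).2 ?_
    show QuasiCompact (prod.fst : S ⨯ (sys g).obj i₀ ⟶ S)
    exact MorphismProperty.of_isPullback
      (IsPullback.of_is_product' (prodIsProd S ((sys g).obj i₀)) specULiftZIsTerminal).flip
      (inferInstance : QuasiCompact (specULiftZIsTerminal.from ((sys g).obj i₀)))
  let y : (yon S).obj W ⟶ c.pt ⨯ Y := prod.lift ((yon S).map (unitProd W)) a
  have hy : RepWith @IsClosedImmersion y := by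
    rw [show y = prod.lift (𝟙 _) a ≫ prod.map ((yon S).map (unitProd W)) (𝟙 Y) from
      ((prod.lift_map _ _ _ _).trans (by rw [Category.id_comp, Category.comp_id])).symm]
    exact repWith_comp (repWith_graph a hYs)
      (repWith_of_isPullback (isPullback_prodMap_fst _) ((repWith_yon_map_iff _ _).2 inferInstance))
  have hbase : IsPullback (prod.map (c.π.app i₀) (𝟙 Y)) prod.fst b (c.π.app i₀) :=
    (isPullback_prodMap_fst (c.π.app i₀)).flip
  obtain ⟨hlim⟩ := nonempty_isLimit_bcCone D b hbase hcD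
  let i₁ : Over i₀ := Over.mk (𝟙 i₀)
  let t : (bcDiagram D b).obj i₁ ⟶ Y := pullback.fst b (D.map i₁.hom) ≫ prod.snd
  have hcomp : y ≫ (bcCone D b hbase).π.app i₁ ≫ t = a := by
    show y ≫ pullback.lift (prod.map (c.π.app i₀) (𝟙 Y)) _ _ ≫ pullback.fst b _ ≫ prod.snd = a
    rw [pullback.lift_fst_assoc]
    simp [y]
  obtain ⟨l₀, hl⟩ := eventually_closedImmersion (D := bcDiagram D b) (isAlgSpace_bcDiagram hD hb)
    (isAffineMor_bcDiagram_map hDa) hlim i₁ (isQuasiCompactSp_bcDiagram hD hDa hb hbc i₁)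
    (IsAlgSpace.yon_obj W) y hy hY t (by rw [hcomp]; exact ha)
  let κ : W ⟶ (prodOver S).obj ((sys g).obj l₀.left) :=
    unitProd W ≫ (prodOver S).map ((sysCone g).π.app l₀.left)
  refine ⟨(sys g).obj l₀.left, κ, inferInstance, hi₀ _ l₀.hom, ?_, ?_⟩
  · show LocallyOfFiniteType (toZ l₀.left.unop.spec)
    rw [← Groth.Agent.H7Lim.Approx.toZ_eq (l₀.left.unop.proj ≫ toZ S₀)]
    infer_instance
  let e : D.obj l₀.left ⨯ Y ≅ (bcDiagram D b).obj l₀ := (isPullback_prodMap_fst (D.map l₀.hom)).flip.isoPullback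
  haveI : MorphismProperty.ContainsIdentities (@IsClosedImmersion : MorphismProperty Scheme.{u}) :=
    ⟨fun _ => inferInstance⟩
  have heq : prod.lift ((yon S).map κ) a = (y ≫ (bcCone D b hbase).π.app l₀) ≫ e.inv := by
    rw [Iso.eq_comp_inv]
    apply pullback.hom_ext
    · rw [Category.assoc, Category.assoc]
      show prod.lift _ a ≫ e.hom ≫ pullback.fst b _ = y ≫ pullback.lift (prod.map (c.π.app i₀) (𝟙 Y)) _ _ ≫ pullback.fst b _
      rw [IsPullback.isoPullback_hom_fst, pullback.lift_fst, prod.lift_map, prod.lift_map]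
      congr 1
      rw [← c.w l₀.hom]
      simp [c, D, κ]
    · rw [Category.assoc, Category.assoc]
      show prod.lift _ a ≫ e.hom ≫ pullback.snd b _ = y ≫ pullback.lift _ (prod.fst ≫ c.π.app l₀.left) _ ≫ pullback.snd b _
      rw [IsPullback.isoPullback_hom_snd, pullback.lift_snd, prod.lift_fst, prod.lift_fst_assoc]
      simp [c, κ]
  rw [heq]
  exact repWith_comp (hl l₀ (𝟙 _)) (repWith_of_isIso _)

/-- Chow's lemma for a separated morphism of finite type to a quasi-compact separated space. -/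
theorem exists_chow_separated {X Y : Sp S} (hX : IsAlgSpace X) (hY : IsAlgSpace Y) (f : X ⟶ Y)
    (hYc : IsQuasiCompactSp Y) (hYs : IsSeparatedSp Y) (hsep : IsSeparatedMor f) (hft : IsFiniteTypeMor f) :
    ∃ (n : ℕ) (T : Over S) (g : (yon S).obj T ⟶ X)
      (b : (yon S).obj T ⟶ (yon S).obj (Over.mk (CohB1.ProjSpaceOver.toBase n S)) ⨯ Y),
      b ≫ prod.snd = g ≫ f ∧ IsProperMor g ∧ Function.Surjective (Points.map g) ∧ RepWith @IsImmersion b := by
  have hqc : IsQuasiCompactSp X := Approx.isQuasiCompactSp_of_mor hft.2 hY hYc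
  have hXs : IsSeparatedSp X := isSeparatedSp_of_mor f hsep hYs
  have hqs : IsQuasiSeparatedSp X :=
    repWith_le (fun _ _ i (_ : IsClosedImmersion i) => inferInstanceAs (QuasiCompact i)) hXs
  obtain ⟨W, h, hh, -, hs, hWc⟩ := exists_scheme_finite_surjective hX hqc hqs
  haveI := hWc
  have hp := ((isFiniteMor_iff_affine_proper (IsAlgSpace.yon_obj W) hX).1 hh).2
  have hWs : IsSeparatedSp ((yon S).obj W) := isSeparatedSp_of_mor h hp.1 hXs
  haveI : IsSeparated W.hom := ⟨(repWith_diag_yon_iff @IsClosedImmersion W).1 hWs⟩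
  haveI : W.left.IsSeparated := by
    constructor
    rw [show terminal.from W.left = W.hom ≫ terminal.from S from terminalIsTerminal.hom_ext _ _]
    infer_instance
  obtain ⟨Z, κ, hZc, hZs, hZt, hk⟩ := exists_stage_closed W hY hYc hYs (h ≫ f)
    (Groth.Agent.H12AlgSp.locP_comp etLocal_lft (IsAlgSpace.yon_obj W) hX hY hp.2.1.1 hft.1)
  haveI := hZc; haveI := hZs; haveI := hZt
  haveI : IsSeparated (toZ Z) := inferInstance
  haveI : QuasiCompact (toZ Z) := inferInstance
  obtain ⟨n, X', π, j, hj, hjπ, hπ, hπs⟩ := Groth.Agent.H7Lim.exists_chow_qcqs (toZ Z)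
  haveI := hj; haveI := hπ; haveI := hπs
  obtain ⟨jS, hjS⟩ := exists_immersion_projSpace S j
  let ρ : W.left ⟶ Z := κ.left ≫ prod.snd
  let T : Over S := Over.mk (pullback.snd π ρ ≫ W.hom)
  let πT : T ⟶ W := Over.homMk (pullback.snd π ρ)
  let κT : T ⟶ (prodOver S).obj X' :=
    Over.homMk (prod.lift (pullback.snd π ρ ≫ W.hom) (pullback.fst π ρ)) (prod.lift_fst _ _)
  have sqS : IsPullback κT πT ((prodOver S).map π) κ := by
    refine IsPullback.of_map (Over.forget S) ?_ ?_
    · apply Over.OverMorphism.ext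
      apply Limits.prod.hom_ext
      · simp [κT, πT, prodOver]
        exact congrArg (pullback.snd π ρ ≫ ·) (Over.w κ).symm
      · simp [κT, πT, prodOver, ρ, pullback.condition]
    · show IsPullback (prod.lift (pullback.snd π ρ ≫ W.hom) (pullback.fst π ρ)) (pullback.snd π ρ)
        (prod.map (𝟙 S) π) κ.left
      refine IsPullback.of_right (h₁₂ := prod.snd) (v₁₃ := π) (h₂₂ := prod.snd) ?_ ?_ (isPullback_prod_map S π)
      · rw [prod.lift_snd]
        exact IsPullback.of_hasPullback π ρ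
      · apply Limits.prod.hom_ext
        · simp
          exact congrArg (pullback.snd π ρ ≫ ·) (Over.w κ).symm
        · simp [ρ, pullback.condition]
  let c₁ : (yon S).obj T ⟶ (yon S).obj ((prodOver S).obj X') ⨯ Y :=
    prod.lift ((yon S).map κT) ((yon S).map πT ≫ h ≫ f)
  have sq : IsPullback c₁ ((yon S).map πT) (prod.map ((yon S).map ((prodOver S).map π)) (𝟙 Y))
      (prod.lift ((yon S).map κ) (h ≫ f)) := by
    refine IsPullback.of_right (h₁₂ := prod.fst) (v₁₃ := (yon S).map ((prodOver S).map π)) (h₂₂ := prod.fst) ?_ ?_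
      (isPullback_prodMap_fst _)
    · rw [prod.lift_fst, prod.lift_fst]
      exact sqS.map (yon S)
    · apply Limits.prod.hom_ext
      · simp [c₁, ← Functor.map_comp, sqS.w]
      · simp [c₁]
  haveI : IsProper πT.left := inferInstanceAs (IsProper (pullback.snd π ρ))
  refine ⟨n, T, (yon S).map πT ≫ h, c₁ ≫ prod.map ((yon S).map jS) (𝟙 Y), ?_,
    isProperMor_comp (IsAlgSpace.yon_obj T) (IsAlgSpace.yon_obj W) hX (isProperMor_yon_map πT) hp, ?_, ?_⟩
  · simp [c₁]
  · intro x
    obtain ⟨w, rfl⟩ := hs x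
    haveI : Surjective (pullback.snd π ρ) := MorphismProperty.pullback_snd _ _ hπs
    obtain ⟨t, ht⟩ := (pullback.snd π ρ).surjective (Points.toScheme W w)
    refine ⟨Points.ofScheme T t, ?_⟩
    rw [← Points.ofPt_eq_map_ofScheme, ofPt_map, Points.ofPt_eq_map_ofScheme]
    exact congrArg (Points.map h) ((congrArg (Points.ofScheme W) ht).trans (Points.ofScheme_toScheme W w))
  · refine repWith_comp (P := @IsImmersion) (repWith_le (P := @IsClosedImmersion) (Q := @IsImmersion)
      (fun _ _ i (_ : IsClosedImmersion i) => inferInstance) (repWith_of_isPullback sq.flip hk))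
      (repWith_of_isPullback (isPullback_prodMap_fst _) ((repWith_yon_map_iff _ _).2 hjS))

end Groth.Agent.H13Chow
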