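import Groth.Agent.H7Lim.Proper.Chow
import Mathlib

/-!
Base change to a scheme along the terminal morphism.
-/

set_option autoImplicit false
set_option backward.isDefEq.respectTransparency false
universe u

open CategoryTheory CategoryTheory.Limits AlgebraicGeometry

namespace Groth.Agent.H13Chow

variable (S : Scheme.{u})

/-- The product with `S`, as a scheme over `S`. -/
noncomputable def prodOver : Scheme.{u} ⥤ Over S where
  obj A := Over.mk (prod.fst : S ⨯ A ⟶ S)
  map φ := Over.homMk (prod.map (𝟙 S) φ) (by simp)

/-- The product with `S` is right adjoint to forgetting the map to `S`. -/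
noncomputable def forgetAdjProdOver : Over.forget S ⊣ prodOver S :=
  Adjunction.mkOfHomEquiv
    { homEquiv := fun V A =>
        { toFun := fun φ => Over.homMk (prod.lift V.hom φ) (prod.lift_fst _ _)
          invFun := fun ψ => ψ.left ≫ prod.snd
          left_inv := fun φ => prod.lift_snd _ _
          right_inv := fun ψ => by
            apply Over.OverMorphism.ext
            apply Limits.prod.hom_ext
            · simp only [Over.homMk_left, prod.lift_fst]
              exact (Over.w ψ).symm
            · simp }
      homEquiv_naturality_left_symm := fun f g => by simp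
      homEquiv_naturality_right := fun f g => by
        apply Over.OverMorphism.ext
        simp [prodOver] }

instance : (prodOver S).IsRightAdjoint := ⟨_, ⟨forgetAdjProdOver S⟩⟩

/-- Base change along the terminal morphism is cartesian over each morphism. -/
theorem isPullback_prod_map {A B : Scheme.{u}} (φ : A ⟶ B) :
    IsPullback (prod.snd : S ⨯ A ⟶ A) (prod.map (𝟙 S) φ) φ (prod.snd : S ⨯ B ⟶ B) := by
  refine ⟨⟨by simp⟩, ⟨PullbackCone.IsLimit.mk _ (fun s => prod.lift (s.snd ≫ prod.fst) s.fst)
    (fun s => prod.lift_snd _ _) (fun s => ?_) (fun s m h₁ h₂ => ?_)⟩⟩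
  · apply Limits.prod.hom_ext
    · simp
    · simp [s.condition]
  · apply Limits.prod.hom_ext
    · simp [← h₂]
    · simp [h₁]

instance isAffineHom_prod_map {A B : Scheme.{u}} (φ : A ⟶ B) [IsAffineHom φ] :
    IsAffineHom (prod.map (𝟙 S) φ) :=
  MorphismProperty.of_isPullback (isPullback_prod_map S φ) ‹_›

/-- The product with a separated scheme is separated over it. -/
instance isSeparated_prod_snd [S.IsSeparated] (A : Scheme.{u}) :
    IsSeparated (prod.snd : S ⨯ A ⟶ A) :=
  MorphismProperty.of_isPullback
    (IsPullback.of_is_product' (fst := (prod.fst : S ⨯ A ⟶ S)) (snd := (prod.snd : S ⨯ A ⟶ A))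
      (prodIsProd S A) terminalIsTerminal) (inferInstance : IsSeparated (terminal.from S))

instance isSeparated_prod_fst (A : Scheme.{u}) [A.IsSeparated] :
    IsSeparated (prod.fst : S ⨯ A ⟶ S) :=
  MorphismProperty.of_isPullback
    (IsPullback.of_is_product' (fst := (prod.fst : S ⨯ A ⟶ S)) (snd := (prod.snd : S ⨯ A ⟶ A))
      (prodIsProd S A) terminalIsTerminal).flip (inferInstance : IsSeparated (terminal.from A))

/-- The immersion into projective space over `S` induced by an immersion into absolute projective space. -/
theorem exists_immersion_projSpace {X' : Scheme.{u}} {n : ℕ}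
    (j : X' ⟶ CohB1.ProjSpaceOver n (Spec (CommRingCat.of (ULift.{u} ℤ)))) [IsImmersion j] :
    ∃ jS : (prodOver S).obj X' ⟶ Over.mk (CohB1.ProjSpaceOver.toBase n S), IsImmersion jS.left := by
  obtain ⟨p, hp⟩ := Groth.Agent.H7Lim.exists_isPullback_toBase n (specULiftZIsTerminal.from S)
  let m : S ⨯ X' ⟶ CohB1.ProjSpaceOver n S := hp.lift (prod.snd ≫ j) prod.fst (specULiftZIsTerminal.hom_ext _ _)
  refine ⟨Over.homMk m (by exact hp.lift_snd _ _ _), ?_⟩
  have sq : IsPullback (prod.snd : S ⨯ X' ⟶ X') (prod.fst : S ⨯ X' ⟶ S)
      (specULiftZIsTerminal.from X') (specULiftZIsTerminal.from S) :=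
    (IsPullback.of_is_product' (prodIsProd S X') specULiftZIsTerminal).flip
  refine MorphismProperty.of_isPullback (P := @IsImmersion) (IsPullback.of_bot (h₁₁ := prod.snd) (v₁₁ := m)
    (v₁₂ := j) ?_ (hp.lift_fst _ _ _).symm hp) ‹_›
  rw [hp.lift_snd, show j ≫ CohB1.ProjSpaceOver.toBase n _ = specULiftZIsTerminal.from X' from
    specULiftZIsTerminal.hom_ext _ _]
  exact sq

end Groth.Agent.H13Chow
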